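import Cfsg.Agent.Lib.OddBase.Gluck

/-!
# Bases of size two: reduction to the homogeneous case

Restriction to invariant subgroups, and the gluing of two orbits along a system of orthogonal
idempotents by means of a regular orbit on subsets.
-/

set_option autoImplicit false
set_option maxHeartbeats 800000
set_option linter.style.haveILetI false
set_option linter.unusedSectionVars false

namespace CfsgLib.OddBase

open scoped Classical

universe u

variable {G V : Type u} [Group G] [AddCommGroup V]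

/-- Every invariant subgroup is trivial. -/
def Irr (ρ : G →* AddMonoid.End V) : Prop := ∀ U, Inv ρ U → U = ⊥ ∨ U = ⊤

theorem Irr.cr {ρ : G →* AddMonoid.End V} (h : Irr ρ) : CR ρ := fun U hU => by
  rcases h U hU with rfl | rfl
  · exact ⟨⊤, fun _ _ _ => trivial, inf_top_eq _, sup_top_eq _⟩
  · exact ⟨⊥, fun g x hx => by
      rw [AddSubgroup.mem_bot] at hx ⊢
      rw [hx, map_zero], inf_bot_eq _, sup_bot_eq _⟩

/-- The representation on an invariant subgroup. -/
def restr (ρ : G →* AddMonoid.End V) (U : AddSubgroup V) (hU : Inv ρ U) :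
    G →* AddMonoid.End U where
  toFun g := AddMonoidHom.mk' (fun x => (⟨ρ g x, hU g x x.2⟩ : U))
    fun a b => Subtype.ext (map_add (ρ g) (a : V) b)
  map_one' := end_ext fun x => Subtype.ext (rho_one ρ x.1)
  map_mul' g h := end_ext fun x => Subtype.ext (rho_mul ρ g h x.1)

@[simp] theorem restr_apply (ρ : G →* AddMonoid.End V) (U : AddSubgroup V) (hU : Inv ρ U) (g : G)
    (x : U) : ((restr ρ U hU g x : U) : V) = ρ g x := rfl

theorem restr_cr {ρ : G →* AddMonoid.End V} (hcr : CR ρ) (U : AddSubgroup V) (hU : Inv ρ U) :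
    CR (restr ρ U hU) := by
  intro T hT
  obtain ⟨W, hW, hTW, htop⟩ := hcr (T.map U.subtype) (by
    rintro g _ ⟨t, ht, rfl⟩
    exact ⟨_, hT g t ht, rfl⟩)
  refine ⟨W.comap U.subtype, fun g x hx => hW g x hx, ?_, ?_⟩
  · rw [AddSubgroup.eq_bot_iff_forall]
    rintro x ⟨hxT, hxW⟩
    have : (x : V) ∈ T.map U.subtype ⊓ W := ⟨⟨x, hxT, rfl⟩, hxW⟩
    rw [hTW, AddSubgroup.mem_bot] at this
    exact Subtype.ext this
  · rw [AddSubgroup.eq_top_iff']
    intro x
    have : (x : V) ∈ T.map U.subtype ⊔ W := by rw [htop]; trivial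
    obtain ⟨_, ⟨t, ht, rfl⟩, b, hb, hab⟩ := AddSubgroup.mem_sup.mp this
    refine AddSubgroup.mem_sup.mpr ⟨t, ht, x - t, ?_, add_sub_cancel t x⟩
    show U.subtype (x - t) ∈ W
    rw [map_sub, AddSubgroup.coe_subtype, ← hab]
    simpa using hb

theorem good_of_sum {ρ : G →* AddMonoid.End V} {U W : AddSubgroup V} (hU : Inv ρ U) (hW : Inv ρ W)
    (hUW : U ⊓ W = ⊥) (htop : U ⊔ W = ⊤) (h1 : Good (restr ρ U hU)) (h2 : Good (restr ρ W hW)) :
    Good ρ := by
  obtain ⟨a, b, hab⟩ := h1
  obtain ⟨c, d, hcd⟩ := h2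
  refine ⟨a + c, b + d, fun g hx hy => ?_⟩
  have key : ∀ (p : U) (r : W), ρ g ((p : V) + r) = p + r →
      restr ρ U hU g p = p ∧ restr ρ W hW g r = r := by
    intro p r h
    rw [map_add] at h
    have e : ρ g p - p = r - ρ g r := by
      rw [sub_eq_sub_iff_add_eq_add, h, add_comm]
    have h0 : ρ g p - p = 0 := by
      rw [← AddSubgroup.mem_bot, ← hUW]
      exact AddSubgroup.mem_inf.mpr ⟨sub_mem (hU g p p.2) p.2, e ▸ sub_mem r.2 (hW g r r.2)⟩
    have hp := sub_eq_zero.mp h0
    refine ⟨Subtype.ext hp, Subtype.ext ?_⟩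
    rw [h0, eq_comm, sub_eq_zero] at e
    exact e.symm
  obtain ⟨ha, hc⟩ := key a c hx
  obtain ⟨hb, hd⟩ := key b d hy
  have hgU := hab g ha hb
  have hgW := hcd g hc hd
  refine end_ext fun x => ?_
  have : x ∈ U ⊔ W := by rw [htop]; trivial
  obtain ⟨p, hp, r, hr, rfl⟩ := AddSubgroup.mem_sup.mp this
  have e1 : ρ g p = p := (congrArg Subtype.val (DFunLike.congr_fun hgU ⟨p, hp⟩) :)
  have e2 : ρ g r = r := (congrArg Subtype.val (DFunLike.congr_fun hgW ⟨r, hr⟩) :)
  rw [map_add, e1, e2]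
  rfl

/-- From one base of size two, two inequivalent ones. -/
theorem two_orbits [Finite G] (hG : Odd (Nat.card G)) {ρ : G →* AddMonoid.End V} (hgood : Good ρ)
    [Nontrivial V] :
    ∃ P : Bool → V × V, (∀ k g, ρ g (P k).1 = (P k).1 → ρ g (P k).2 = (P k).2 → ρ g = 1) ∧
      (∀ k k' g, ρ g (P k).1 = (P k').1 → ρ g (P k).2 = (P k').2 → k = k') := by
  obtain ⟨a, b, hab⟩ := hgood
  suffices h : ∃ P Q : V × V, (∀ g, ρ g P.1 = P.1 → ρ g P.2 = P.2 → ρ g = 1) ∧
      (∀ g, ρ g Q.1 = Q.1 → ρ g Q.2 = Q.2 → ρ g = 1) ∧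
      ∀ g, ρ g P.1 = Q.1 → ρ g P.2 = Q.2 → False by
    obtain ⟨P, Q, hP, hQ, hPQ⟩ := h
    refine ⟨fun k => cond k Q P, fun k => by cases k <;> assumption, fun k k' g h1 h2 => ?_⟩
    cases k <;> cases k'
    · rfl
    · exact (hPQ g h1 h2).elim
    · refine (hPQ g⁻¹ ?_ ?_).elim
      · rw [show P.1 = ρ g Q.1 from h1.symm]; exact rho_inv_apply ρ g Q.1
      · rw [show P.2 = ρ g Q.2 from h2.symm]; exact rho_inv_apply ρ g Q.2
    · rfl
  by_cases heq : a = b
  · subst heq
    by_cases ha : a = 0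
    · obtain ⟨w, hw⟩ := exists_ne (0 : V)
      have htriv : ∀ g, ρ g = 1 := fun g => hab g (by rw [ha, map_zero]) (by rw [ha, map_zero])
      refine ⟨(0, 0), (w, 0), fun g _ _ => htriv g, fun g _ _ => htriv g, fun g h _ => hw ?_⟩
      change ρ g 0 = w at h
      rw [← h, map_zero]
    · refine ⟨(0, a), (a, 0), fun g _ h => hab g h h, fun g h _ => hab g h h, fun g h _ => ha ?_⟩
      change ρ g 0 = a at h
      rw [← h, map_zero]
  · refine ⟨(a, b), (b, a), fun g h1 h2 => hab g h1 h2, fun g h1 h2 => hab g h2 h1,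
      fun g h1 h2 => heq ?_⟩
    change ρ g a = b at h1
    change ρ g b = a at h2
    let H : Subgroup G :=
      { carrier := {g | ρ g = 1}
        one_mem' := map_one ρ
        mul_mem' := fun {x y} hx hy => by
          simp only [Set.mem_ofPred_eq] at hx hy ⊢
          rw [map_mul, hx, hy, one_mul]
        inv_mem' := fun {x} hx => by
          simp only [Set.mem_ofPred_eq] at hx ⊢
          rw [← one_mul (ρ x⁻¹), ← hx, ← map_mul, mul_inv_cancel, map_one, hx] }
    have hg : ρ g = 1 := mem_of_sq_mem hG H (g := g) (show ρ (g ^ 2) = 1 from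
      hab _ (by rw [sq, rho_mul, h1, h2]) (by rw [sq, rho_mul, h2, h1]))
    rw [← h1, hg]
    rfl

/-- Conjugation of endomorphisms. -/
def cj (ρ : G →* AddMonoid.End V) (g : G) (r : AddMonoid.End V) : AddMonoid.End V :=
  ρ g * r * ρ g⁻¹

variable (ρ : G →* AddMonoid.End V)

theorem cj_mul (g : G) (r s : AddMonoid.End V) : cj ρ g (r * s) = cj ρ g r * cj ρ g s := by
  simp only [cj, mul_assoc]
  rw [← mul_assoc (ρ g⁻¹) (ρ g), ← map_mul, inv_mul_cancel, map_one, one_mul]

theorem cj_comp (g h : G) (r : AddMonoid.End V) : cj ρ (g * h) r = cj ρ g (cj ρ h r) := by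
  simp only [cj, map_mul, mul_inv_rev, mul_assoc]

theorem cj_one_left (r : AddMonoid.End V) : cj ρ 1 r = r := by simp [cj]

theorem cj_one (g : G) : cj ρ g 1 = 1 := by simp [cj, ← map_mul]

theorem cj_zero (g : G) : cj ρ g 0 = 0 := by simp [cj]

theorem cj_add (g : G) (r s : AddMonoid.End V) : cj ρ g (r + s) = cj ρ g r + cj ρ g s := by
  simp [cj, mul_add, add_mul]

theorem cj_neg (g : G) (r : AddMonoid.End V) : cj ρ g (-r) = -cj ρ g r := by simp [cj]

theorem cj_inv_cj (g : G) (r : AddMonoid.End V) : cj ρ g⁻¹ (cj ρ g r) = r := by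
  rw [← cj_comp, inv_mul_cancel, cj_one_left]

theorem cj_apply (g : G) (r : AddMonoid.End V) (x : V) : cj ρ g r (ρ g x) = ρ g (r x) := by
  show ρ g (r (ρ g⁻¹ (ρ g x))) = _
  rw [rho_inv_apply]

theorem cj_of_comm (g : G) (r : AddMonoid.End V) (h : ρ g * r = r * ρ g) : cj ρ g r = r := by
  rw [cj, h, mul_assoc, ← map_mul, mul_inv_cancel, map_one, mul_one]

theorem cj_rho (g h : G) : cj ρ g (ρ h) = ρ (g * h * g⁻¹) := by
  simp only [cj, map_mul]

variable {ρ}

/-- The imprimitive case. -/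
theorem good_of_idempotent [Finite G] [Finite V] [Group.IsSolvable G] (hG : Odd (Nat.card G))
    (hirr : Irr ρ) (R : Subring (AddMonoid.End V)) (hcomm : ∀ r ∈ R, ∀ s ∈ R, r * s = s * r)
    (hinv : ∀ g, ∀ r ∈ R, cj ρ g r ∈ R) {f : AddMonoid.End V} (hfR : f ∈ R) (hf : f * f = f)
    (hf0 : f ≠ 0) (hf1 : f ≠ 1)
    (ih : ∀ (H W : Type u) [Group H] [Finite H] [AddCommGroup W] [Finite W]
      (σ : H →* AddMonoid.End W), Nat.card W < Nat.card V → Odd (Nat.card H) →
        Group.IsSolvable H → CR σ → Good σ) :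
    Good ρ := by
  haveI : Finite (AddMonoid.End V) := Finite.of_injective _ DFunLike.coe_injective
  have hidem : ∀ {r : AddMonoid.End V}, r * r = r → ∀ x, r (r x) = r x :=
    fun h x => DFunLike.congr_fun h x
  obtain ⟨e, ⟨heR, he, he0⟩, hmin⟩ := Set.exists_min_image
    {r : AddMonoid.End V | r ∈ R ∧ r * r = r ∧ r ≠ 0} (fun r => Nat.card (fixedBy r))
    (Set.toFinite _) ⟨f, hfR, hf, hf0⟩
  have hWlt : Nat.card (fixedBy e) < Nat.card V := by
    refine (hmin f ⟨hfR, hf, hf0⟩).trans_lt ?_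
    refine lt_of_le_of_ne (Nat.le_of_dvd Nat.card_pos (AddSubgroup.card_addSubgroup_dvd_card _))
      fun h => hf1 ?_
    have htop := AddSubgroup.eq_top_of_card_eq _ h
    exact end_ext fun x => (show x ∈ fixedBy f by rw [htop]; trivial)
  -- the conjugates of `e`
  let I := {r : AddMonoid.End V // ∃ g, cj ρ g e = r}
  letI : MulAction G I :=
    { smul := fun g r => ⟨cj ρ g r.1, by
        obtain ⟨h, hh⟩ := r.2
        exact ⟨g * h, by rw [cj_comp, hh]⟩⟩
      one_smul := fun r => Subtype.ext (cj_one_left ρ r.1)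
      mul_smul := fun g h r => Subtype.ext (cj_comp ρ g h r.1) }
  haveI := Fintype.ofFinite I
  choose t ht using fun i : I => i.2
  have hIR : ∀ i : I, i.1 ∈ R := fun i => ht i ▸ hinv _ e heR
  have hIid : ∀ i : I, i.1 * i.1 = i.1 := fun i => by rw [← ht i, ← cj_mul, he]
  have hI0 : ∀ i : I, i.1 ≠ 0 := fun i h => he0 (by
    rw [← cj_inv_cj ρ (t i) e, ht i, h, cj_zero])
  have hIcard : ∀ i : I, Nat.card (fixedBy i.1) = Nat.card (fixedBy e) := by
    intro i
    rw [← ht i]
    exact (Nat.card_congr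
      { toFun := fun x : fixedBy e => (⟨ρ (t i) x, by
          show cj ρ (t i) e (ρ (t i) x) = _
          rw [cj_apply, x.2]⟩ : fixedBy (cj ρ (t i) e))
        invFun := fun y => ⟨ρ (t i)⁻¹ y, by
          show e (ρ (t i)⁻¹ y) = _
          have h := cj_apply ρ (t i)⁻¹ (cj ρ (t i) e) (y : V)
          rwa [cj_inv_cj, show cj ρ (t i) e y = (y : V) from y.2] at h⟩
        left_inv := fun x => Subtype.ext (rho_inv_apply ρ (t i) (x : V))
        right_inv := fun y => Subtype.ext (rho_apply_inv ρ (t i) (y : V)) }).symm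
  have habs : ∀ i j : I, i.1 * j.1 ≠ 0 → i.1 * j.1 = i.1 := by
    intro i j h
    have hc := hcomm i.1 (hIR i) j.1 (hIR j)
    have hid : (i.1 * j.1) * (i.1 * j.1) = i.1 * j.1 := by
      rw [mul_assoc, ← mul_assoc j.1, ← hc, mul_assoc i.1, hIid, ← mul_assoc, hIid]
    have hle : fixedBy (i.1 * j.1) ≤ fixedBy i.1 := by
      intro x hx
      rw [mem_fixedBy] at hx ⊢
      conv_lhs => rw [← hx]
      show i.1 (i.1 (j.1 x)) = x
      rw [hidem (hIid i)]
      exact hx
    have heq : fixedBy (i.1 * j.1) = fixedBy i.1 := AddSubgroup.eq_of_le_of_card_ge hle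
      (hIcard i ▸ hmin _ ⟨R.mul_mem (hIR i) (hIR j), hid, h⟩)
    refine end_ext fun x => ?_
    have hx : i.1 x ∈ fixedBy (i.1 * j.1) := by
      rw [heq, mem_fixedBy]
      exact hidem (hIid i) x
    rw [mem_fixedBy] at hx
    rw [← hx]
    show (i.1 * j.1) x = ((i.1 * j.1) * i.1) x
    rw [mul_assoc, ← hcomm i.1 (hIR i) j.1 (hIR j), ← mul_assoc, hIid]
  have horth : ∀ i j : I, i ≠ j → i.1 * j.1 = 0 := by
    intro i j hne
    by_contra h
    have h1 := habs i j h
    rw [hcomm i.1 (hIR i) j.1 (hIR j)] at h h1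
    exact hne (Subtype.ext (h1.symm.trans (habs j i h)))
  have happly : ∀ i j : I, ∀ x, j.1 x = x → i.1 x = if i = j then x else 0 := by
    intro i j x hx
    split_ifs with h
    · exact h ▸ hx
    · rw [← hx]
      exact DFunLike.congr_fun (horth i j h) x
  let i0 : I := ⟨e, 1, cj_one_left ρ e⟩
  -- the sum of the conjugates
  have hsum : ∀ x, ∑ i : I, i.1 x = x := by
    let s : AddMonoid.End V := ∑ i : I, i.1
    have hs : ∀ x, s x = ∑ i : I, i.1 x := fun x => AddMonoidHom.finsetSum_apply _ _ x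
    have hii : ∀ x, s (s x) = s x := by
      intro x
      rw [hs, hs, ]
      refine Finset.sum_congr rfl fun i _ => ?_
      rw [map_sum, Finset.sum_congr rfl fun j _ => happly i j (j.1 x) (hidem (hIid j) x),
        Finset.sum_ite_eq]
      simp
    have hinvs : Inv ρ (fixedBy s) := by
      intro g x hx
      rw [mem_fixedBy] at hx ⊢
      conv_rhs => rw [← hx]
      rw [hs, hs, map_sum]
      refine (Fintype.sum_equiv (MulAction.toPerm g) _ _ fun i => ?_).symm
      exact (cj_apply ρ g i.1 x).symm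
    rcases hirr _ hinvs with h | h
    · exfalso
      refine he0 (end_ext fun x => ?_)
      have hx : e x ∈ fixedBy s := by
        rw [mem_fixedBy, hs,
          Finset.sum_congr rfl fun i _ => happly i i0 (e x) (hidem he x), Finset.sum_ite_eq']
        simp
      rw [h, AddSubgroup.mem_bot] at hx
      exact hx
    · intro x
      rw [← hs]
      exact (show x ∈ fixedBy s by rw [h]; trivial)
  -- the block
  let B : Subgroup G := MulAction.stabilizer G i0
  have hB : ∀ g, g ∈ B ↔ cj ρ g e = e := fun g => by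
    show g • i0 = i0 ↔ _
    exact Subtype.ext_iff
  let W : AddSubgroup V := fixedBy e
  let ρB : B →* AddMonoid.End V := ρ.comp B.subtype
  have hW : Inv ρB W := by
    intro b x hx
    rw [mem_fixedBy] at hx ⊢
    have := cj_apply ρ (b : G) e x
    rwa [(hB b).mp b.2, hx] at this
  have hcrW : CR (restr ρB W hW) := by
    refine Irr.cr fun U hU => ?_
    by_cases hU0 : U = ⊥
    · exact Or.inl hU0
    refine Or.inr ?_
    let U' : AddSubgroup V := AddSubgroup.closure {y | ∃ g, ∃ x ∈ U, ρ g (x : V) = y}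
    have hU' : Inv ρ U' := by
      intro g x hx
      refine AddSubgroup.closure_induction ?_ ?_ ?_ ?_ hx
      · rintro _ ⟨h, y, hy, rfl⟩
        exact AddSubgroup.subset_closure ⟨g * h, y, hy, rho_mul ρ g h y.1⟩
      · rw [map_zero]; exact zero_mem _
      · intro a b _ _ ha hb
        rw [map_add]
        exact add_mem ha hb
      · intro a _ ha
        rw [map_neg]
        exact neg_mem ha
    have hU'top : U' = ⊤ := by
      refine (hirr U' hU').resolve_left fun h => hU0 ?_
      rw [AddSubgroup.eq_bot_iff_forall]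
      intro x hx
      have : ρ 1 (x : V) ∈ U' := AddSubgroup.subset_closure ⟨1, x, hx, rfl⟩
      rw [h, AddSubgroup.mem_bot, rho_one] at this
      exact Subtype.ext this
    rw [AddSubgroup.eq_top_iff']
    have key : ∀ y ∈ U', e y ∈ U.map W.subtype := by
      intro y hy
      refine AddSubgroup.closure_induction ?_ ?_ ?_ ?_ hy
      · rintro _ ⟨g, x, hx, rfl⟩
        by_cases hg : g ∈ B
        · exact ⟨_, hU ⟨g, hg⟩ x hx, (hW ⟨g, hg⟩ x x.2).symm⟩
        · have hne : g⁻¹ • i0 ≠ i0 := fun h => hg (inv_mem_iff.mp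
            (show g⁻¹ ∈ MulAction.stabilizer G i0 from h))
          have h0 := happly (g⁻¹ • i0) i0 (x : V) x.2
          rw [if_neg hne] at h0
          have h := cj_apply ρ g (g⁻¹ • i0).1 (x : V)
          rw [show cj ρ g (g⁻¹ • i0).1 = e from
            congrArg Subtype.val (smul_inv_smul g i0), h0, map_zero] at h
          rw [h]
          exact zero_mem _
      · rw [map_zero]; exact zero_mem _
      · intro a b _ _ ha hb
        rw [map_add]
        exact add_mem ha hb
      · intro a _ ha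
        rw [map_neg]
        exact neg_mem ha
    intro w
    obtain ⟨u, hu, huw⟩ := key w (by rw [hU'top]; trivial)
    rw [w.2] at huw
    rwa [← Subtype.ext (show (u : V) = w from huw)]
  have hWnt : Nontrivial W := by
    by_contra h
    rw [not_nontrivial_iff_subsingleton] at h
    refine he0 (end_ext fun x => ?_)
    exact congrArg Subtype.val (Subsingleton.elim (⟨e x, hidem he x⟩ : W) 0)
  obtain ⟨P, hP, hPP⟩ := two_orbits (odd_card_of_dvd hG B) (ih B W (restr ρB W hW) hWlt
    (odd_card_of_dvd hG B) inferInstance hcrW)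
  obtain ⟨s, hs⟩ := gluck (G := G) (Ω := I) hG inferInstance
  let vec : (I → W) → V := fun w => ∑ i : I, ρ (t i) (w i : V)
  have hcomp : ∀ (w : I → W) (i : I), i.1 (vec w) = ρ (t i) (w i : V) := by
    intro w i
    have hfix : ∀ j : I, j.1 (ρ (t j) (w j : V)) = ρ (t j) (w j : V) := fun j => by
      conv_lhs => rw [← ht j]
      rw [cj_apply, (w j).2]
    simp only [vec]
    rw [map_sum, Finset.sum_congr rfl fun j _ => happly i j _ (hfix j), Finset.sum_ite_eq]
    simp
  have hmove : ∀ (w : I → W) (g : G), ρ g (vec w) = vec w → ∀ i : I,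
      ρ ((t (g • i))⁻¹ * g * t i) (w i : V) = (w (g • i) : V) := by
    intro w g hg i
    have h := cj_apply ρ g i.1 (vec w)
    rw [hg, show cj ρ g i.1 = (g • i).1 from rfl, hcomp, hcomp] at h
    rw [rho_mul, rho_mul, ← h, rho_inv_apply]
  refine ⟨vec fun i => (P (s i)).1, vec fun i => (P (s i)).2, fun g hx hy => ?_⟩
  have hmem : ∀ i : I, (t (g • i))⁻¹ * g * t i ∈ B := by
    intro i
    rw [hB, cj_comp, cj_comp, ht i, show cj ρ g i.1 = (g • i).1 from rfl]
    have h := cj_inv_cj ρ (t (g • i)) e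
    rwa [ht] at h
  have hs' : ∀ i, s (g • i) = s i := fun i =>
    (hPP (s i) (s (g • i)) ⟨_, hmem i⟩ (Subtype.ext (hmove _ g hx i))
      (Subtype.ext (hmove _ g hy i))).symm
  have htriv := hs g hs'
  refine end_ext fun x => ?_
  show ρ g x = x
  conv_lhs => rw [← hsum x]
  rw [map_sum]
  conv_rhs => rw [← hsum x]
  refine Finset.sum_congr rfl fun i _ => ?_
  have hb : restr ρB W hW ⟨_, hmem i⟩ = 1 := hP (s i) ⟨_, hmem i⟩
    (Subtype.ext ((hmove _ g hx i).trans (by rw [hs'])))
    (Subtype.ext ((hmove _ g hy i).trans (by rw [hs'])))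
  have hw : ρ (t i)⁻¹ (i.1 x) ∈ W := by
    rw [mem_fixedBy]
    have h := cj_apply ρ (t i)⁻¹ i.1 (i.1 x)
    rw [hidem (hIid i) x] at h
    have h2 := cj_inv_cj ρ (t i) e
    rw [ht i] at h2
    rwa [h2] at h
  have h := congrArg Subtype.val (DFunLike.congr_fun hb ⟨_, hw⟩)
  change ρ ((t (g • i))⁻¹ * g * t i) (ρ (t i)⁻¹ (i.1 x)) = ρ (t i)⁻¹ (i.1 x) at h
  rw [htriv i, rho_mul, rho_apply_inv, rho_mul] at h
  exact rho_injective ρ (t i)⁻¹ h

end CfsgLib.OddBase
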