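import Cfsg.Agent.Lib.OddBase.Induced

/-!
# The bound for the group induced on the layer
-/

set_option autoImplicit false
set_option maxHeartbeats 800000
set_option linter.style.haveILetI false
set_option linter.unusedSectionVars false

namespace CfsgLib.OddBase

open scoped commutatorElement

universe u

variable {A : Type u} [Group A] [Finite A] {Z N : Subgroup A}
  {V : Type u} [AddCommGroup V] [Finite V] {ρ : A →* AddMonoid.End V} {π : ↥N → V}

/-- Iterating a map which translates every vector by a fixed vector. -/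
theorem pow_apply_add (g : A) {w d : V} (hd : ρ g d = d) (hw : ρ g w = w + d) :
    ∀ i : ℕ, ρ (g ^ i) w = w + i • d
  | 0 => by simp
  | i + 1 => by
    rw [pow_succ', rho_mul, pow_apply_add g hd hw i, map_add, map_nsmul, hd, hw, succ_nsmul',
      add_assoc]

theorem rho_eq_one_of_layer [Z.Normal] (hL : IsLayer Z N) (hπs : Function.Surjective π)
    (hπm : ∀ x y, π (x * y) = π x + π y) (hπ0 : ∀ x, π x = 0 ↔ (x : A) ∈ Z)
    (hπa : ∀ (a : A) (x : ↥N), ρ a (π x) = π ⟨a * x * a⁻¹, hL.normal.conj_mem x x.2 a⟩)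
    {c : A} (hc : c ∈ N) : ρ c = 1 := by
  refine end_ext fun v => ?_
  obtain ⟨x, rfl⟩ := hπs v
  rw [hπa]
  have h0 : π (⟨c * x * c⁻¹, hL.normal.conj_mem x x.2 c⟩ * x⁻¹) = 0 :=
    (hπ0 _).mpr (by
      show c * x * c⁻¹ * (x : A)⁻¹ ∈ Z
      exact hL.comm c hc x x.2)
  have h := hπm (⟨c * x * c⁻¹, hL.normal.conj_mem x x.2 c⟩ * x⁻¹) x
  rw [inv_mul_cancel_right, h0, zero_add] at h
  exact h

/-- An element of `C` of order prime to `p` fixing a non-zero vector of a plane is trivial. -/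
theorem trivial_of_fix_plane [IsCyclic Z] (hL : IsLayer Z N) (hπs : Function.Surjective π)
    (hπm : ∀ x y, π (x * y) = π x + π y) (hπ0 : ∀ x, π x = 0 ↔ (x : A) ∈ Z)
    (hπa : ∀ (a : A) (x : ↥N), ρ a (π x) = π ⟨a * x * a⁻¹, hL.normal.conj_mem x x.2 a⟩)
    {p : ℕ} [hp : Fact p.Prime] (hexp : ∀ v : V, p • v = 0) (hV : Nat.card V = p ^ 2)
    {c : A} (hc : c ∈ Subgroup.centralizer (Z : Set A)) {n : ℕ} (hn : ρ (c ^ n) = 1)
    (hnp : n.Coprime p) {v : V} (hv : v ≠ 0) (hfix : ρ c v = v) : ρ c = 1 := by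
  obtain ⟨K, hvK, hcardK, hdiff, -⟩ := exists_orth hL hπs hπm hπ0 hexp hπa hc hv hfix
  have hK : Nat.card K = p := by
    refine Nat.eq_of_mul_eq_mul_left hp.out.pos ?_
    rw [← hcardK, hV, sq]
  have hKfix : K ≤ fixedBy (ρ c) := by
    have hd : Nat.card ↥(K ⊓ fixedBy (ρ c)) ∣ p := hK ▸ AddSubgroup.card_dvd_of_le inf_le_left
    rcases (Nat.dvd_prime hp.out).mp hd with h | h
    · exfalso
      have hmem : v ∈ K ⊓ fixedBy (ρ c) := ⟨hvK, hfix⟩
      rw [AddSubgroup.eq_bot_of_card_eq _ h, AddSubgroup.mem_bot] at hmem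
      exact hv hmem
    · exact inf_eq_left.mp (AddSubgroup.eq_of_le_of_card_ge inf_le_left (by rw [h, hK]))
  refine end_ext fun w => ?_
  have hd : ρ c (ρ c w - w) = ρ c w - w := hKfix (hdiff w)
  have h := pow_apply_add (ρ := ρ) c hd (add_sub_cancel w (ρ c w)).symm n
  rw [hn] at h
  change w = w + n • (ρ c w - w) at h
  have h1 : addOrderOf (ρ c w - w) ∣ n := addOrderOf_dvd_iff_nsmul_eq_zero.mpr (left_eq_add.mp h)
  have h2 : addOrderOf (ρ c w - w) ∣ p := addOrderOf_dvd_iff_nsmul_eq_zero.mpr (hexp _)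
  have h3 := Nat.eq_one_of_dvd_coprimes hnp h1 h2
  rw [AddMonoid.addOrderOf_eq_one_iff, sub_eq_zero] at h3
  exact h3

/-- An element of order prime to `3` of `C` fixes only zero, or it does so modulo `13`. -/
theorem no_thirteen [IsCyclic Z] (hL : IsLayer Z N) (hπs : Function.Surjective π)
    (hπm : ∀ x y, π (x * y) = π x + π y) (hπ0 : ∀ x, π x = 0 ↔ (x : A) ∈ Z)
    (hπa : ∀ (a : A) (x : ↥N), ρ a (π x) = π ⟨a * x * a⁻¹, hL.normal.conj_mem x x.2 a⟩)
    (hexp : ∀ v : V, 3 • v = 0) (hV : Nat.card V = 3 ^ 4)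
    {c : A} (hc : c ∈ Subgroup.centralizer (Z : Set A)) {j : ℕ} (hj : ρ (c ^ 13 ^ j) = 1)
    (hfix : Nat.card (fixedBy (ρ c)) = 3) : False := by
  haveI : Fact (Nat.Prime 3) := ⟨Nat.prime_three⟩
  haveI : Fact (Nat.Prime 13) := ⟨by norm_num⟩
  obtain ⟨v, hv⟩ : ∃ v : fixedBy (ρ c), v ≠ 0 := by
    haveI : Nontrivial (fixedBy (ρ c)) := Finite.one_lt_card_iff_nontrivial.mp (by omega)
    exact exists_ne 0
  have hv' : (v : V) ≠ 0 := fun h => hv (Subtype.ext h)
  obtain ⟨K, hvK, hcardK, -, hKinv⟩ := exists_orth hL hπs hπm hπ0 hexp hπa hc hv' v.2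
  have hK : Nat.card K = 27 := by omega
  -- the cyclic group generated by `c` acts on `K` through a quotient of `13`-power order
  have hpow : ∀ i : ℕ, ∀ w ∈ K, ρ (c ^ i) w ∈ K := by
    intro i
    induction i with
    | zero => intro w hw; simpa using hw
    | succ i ih => intro w hw; rw [pow_succ', rho_mul]; exact hKinv _ (ih w hw)
  let f : AddMonoid.End ↥K := (((ρ c) : V →+ V).comp K.subtype).codRestrict K fun w => hKinv w w.2
  have hf : ∀ (i : ℕ) (w : ↥K), (((f ^ i) w : ↥K) : V) = ρ (c ^ i) w := by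
    intro i
    induction i with
    | zero => intro w; simp
    | succ i ih =>
      intro w
      rw [pow_succ', pow_succ', rho_mul]
      show ρ c (((f ^ i) w : ↥K) : V) = _
      rw [ih]
  have hf1 : f ^ 13 ^ j = 1 := end_ext fun w => Subtype.ext (by rw [hf, hj]; rfl)
  let u : (AddMonoid.End ↥K)ˣ :=
    ⟨f, f ^ (13 ^ j - 1), by rw [← pow_succ', Nat.sub_add_cancel (Nat.one_le_pow _ _ (by norm_num)), hf1],
      by rw [← pow_succ, Nat.sub_add_cancel (Nat.one_le_pow _ _ (by norm_num)), hf1]⟩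
  have hu : u ^ 13 ^ j = 1 := Units.ext (by rw [Units.val_pow_eq_pow_val]; exact hf1)
  let G := Subgroup.zpowers u
  haveI : Finite (AddMonoid.End ↥K) := Finite.of_injective _ DFunLike.coe_injective
  obtain ⟨i, -, hi⟩ := (Nat.dvd_prime_pow (by norm_num : Nat.Prime 13)).mp (orderOf_dvd_of_pow_eq_one hu)
  have h := card_modEq_fixedBy (Units.coeHom (AddMonoid.End ↥K)) u (ℓ := 13) hi
  change Nat.card K ≡ Nat.card (fixedBy f) [MOD 13] at h
  rw [hK] at h
  have hle : Nat.card (fixedBy f) ≤ 3 := hfix ▸ Nat.card_le_card_of_injective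
    (fun w : fixedBy f => (⟨((w : ↥K) : V), congrArg Subtype.val w.2⟩ : fixedBy (ρ c)))
    (fun a b e => Subtype.ext (Subtype.ext (congrArg Subtype.val e :)))
  obtain ⟨a, -, ha⟩ := (Nat.dvd_prime_pow Nat.prime_three).mp
    (show Nat.card (fixedBy f) ∣ 3 ^ 3 by
      rw [show 3 ^ 3 = Nat.card K by rw [hK]; norm_num]
      exact AddSubgroup.card_addSubgroup_dvd_card _)
  have h2 : 1 < Nat.card (fixedBy f) := by
    rw [Finite.one_lt_card_iff_nontrivial]
    exact ⟨⟨⟨⟨v, hvK⟩, Subtype.ext v.2⟩, 0, fun e => hv' (congrArg (fun w => ((w.1 : ↥K) : V)) e)⟩⟩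
  rw [ha] at h hle h2
  rcases a with _ | _ | a
  · norm_num at h2
  · exact absurd h (by decide)
  · rw [pow_succ, pow_succ] at hle
    have : 0 < 3 ^ a := Nat.pow_pos (by norm_num)
    omega

theorem prime_eq_of_dvd {r a b i j : ℕ} (hr : r.Prime) (ha : a.Prime) (hb : b.Prime)
    (h : r ∣ a ^ i * b ^ j) : r = a ∨ r = b := by
  rcases hr.dvd_mul.mp h with h | h
  · exact Or.inl ((Nat.prime_dvd_prime_iff_eq hr ha).mp (hr.dvd_of_dvd_pow h))
  · exact Or.inr ((Nat.prime_dvd_prime_iff_eq hr hb).mp (hr.dvd_of_dvd_pow h))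

theorem arith_nine {r a : ℕ} (hr : r.Prime) (ha : a < 4) (h : r ∣ 3 ^ 4 - 3 ^ a) :
    r = 2 ∨ r = 3 ∨ r = 5 ∨ (r = 13 ∧ a = 1) := by
  interval_cases a
  · rcases prime_eq_of_dvd (i := 4) (j := 1) hr Nat.prime_two (by norm_num : Nat.Prime 5)
      (by norm_num at h ⊢; exact h) with rfl | rfl <;> simp
  · rcases hr.dvd_mul.mp (show r ∣ (2 ^ 1 * 3 ^ 1) * 13 by norm_num at h ⊢; exact h) with h' | h'
    · rcases prime_eq_of_dvd hr Nat.prime_two Nat.prime_three h' with rfl | rfl <;> simp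
    · simp [(Nat.prime_dvd_prime_iff_eq hr (by norm_num)).mp h']
  · rcases prime_eq_of_dvd (i := 3) (j := 2) hr Nat.prime_two Nat.prime_three
      (by norm_num at h ⊢; exact h) with rfl | rfl <;> simp
  · rcases prime_eq_of_dvd (i := 1) (j := 3) hr Nat.prime_two Nat.prime_three
      (by norm_num at h ⊢; exact h) with rfl | rfl <;> simp

/-- The index of the layer in `C`. -/
theorem index_bound [Z.Normal] [IsCyclic Z] [Group.IsSolvable A] (hA : Odd (Nat.card A))
    (hL : IsLayer Z N)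
    (hcent : ∀ c ∈ Subgroup.centralizer (Z : Set A), (∀ y ∈ N, c * y = y * c) → c ∈ Z)
    {e : ℕ} (hcard : Nat.card N = e ^ 2 * Nat.card Z)
    (hgood : ∀ (W : Type u) [AddCommGroup W] [Finite W] (σ : A →* AddMonoid.End W),
      Nat.card W = e ^ 2 → CR σ → Good σ) :
    ∃ h, Nat.card ↥(Subgroup.centralizer (Z : Set A)) = Nat.card N * h ∧ 0 < h ∧ h ≤ e ^ 4 ∧
      (e = 3 → h = 1) ∧ (e = 5 ∨ e = 7 → h ≤ 3) ∧ (e = 9 → h ≤ 5) := by
  haveI := hL.normal
  let C := Subgroup.centralizer (Z : Set A)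
  obtain ⟨V, _, _, ρ, π, hπs, hπm, hπ0, hπa, hVN⟩ := exists_module hL
  have hcr : CR ρ := module_cr hL hπs hπm hπ0 hπa
  have hV : Nat.card V = e ^ 2 := by
    rw [hcard] at hVN
    exact Nat.eq_of_mul_eq_mul_right Nat.card_pos hVN
  let ψ : A →* (AddMonoid.End V)ˣ := ρ.toHomUnits
  have hψ : ∀ a, ((ψ a : (AddMonoid.End V)ˣ) : AddMonoid.End V) = ρ a := fun a => rfl
  let H : Subgroup ψ.range := C.map ψ.rangeRestrict
  haveI : C.Normal := inferInstance
  haveI hHn : H.Normal := Subgroup.Normal.map inferInstance _ ψ.rangeRestrict_surjective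
  let φ : ↥C →* ψ.range := ψ.rangeRestrict.comp C.subtype
  have hker : φ.ker = N.subgroupOf C := by
    ext ⟨c, hc⟩
    simp only [MonoidHom.mem_ker, Subgroup.mem_subgroupOf, φ, MonoidHom.comp_apply,
      Subgroup.coe_subtype]
    rw [Subtype.ext_iff, Units.ext_iff]
    exact ⟨fun h => mem_layer_of_trivial hL hcent hπs hπm hπ0 hπa hc h,
      fun h => rho_eq_one_of_layer hL hπs hπm hπ0 hπa h⟩
  have hrange : φ.range = H := by rw [MonoidHom.range_comp, Subgroup.range_subtype]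
  have hC : Nat.card C = Nat.card N * Nat.card H := by
    rw [← φ.ker.card_mul_index, Subgroup.index_ker, hrange, hker,
      Nat.card_congr (Subgroup.subgroupOfEquivOfLe hL.leC).toEquiv]
  let σ : ψ.range →* AddMonoid.End V := (Units.coeHom _).comp ψ.range.subtype
  have hcrσ : CR σ := fun U hU => by
    obtain ⟨W, hW, h1, h2⟩ := hcr U fun a x hx => hU ⟨ψ a, a, rfl⟩ x hx
    exact ⟨W, fun g x hx => by obtain ⟨_, a, rfl⟩ := g; exact hW a x hx, h1, h2⟩
  haveI : Group.IsSolvable ψ.range := Group.isSolvable_of_surjective ψ.rangeRestrict_surjective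
  haveI : Finite (AddMonoid.End V) := Finite.of_injective _ DFunLike.coe_injective
  have hoddH : Odd (Nat.card H) := Odd.of_dvd_nat hA
    ((Subgroup.card_subgroup_dvd_card H).trans (Subgroup.card_range_dvd ψ))
  have hσinj : ∀ g : ψ.range, σ g = 1 → g = 1 := fun g h => Subtype.ext (Units.ext h)
  have hfaith : ∀ g ∈ H, σ g = 1 → g = 1 := fun g _ => hσinj g
  -- lift an element of `H`
  have hlift : ∀ g ∈ H, ∃ c ∈ C, ∀ i : ℕ, σ (g ^ i) = ρ (c ^ i) := by
    rintro _ ⟨c, hc, rfl⟩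
    refine ⟨c, hc, fun i => ?_⟩
    rw [← map_pow]
    rfl
  have hHe : Nat.card H ≤ e ^ 4 := by
    obtain ⟨v, w, hvw⟩ := hgood V ρ hV hcr
    refine le_trans (Nat.card_le_card_of_injective
      (fun g : H => (σ (g : ψ.range) v, σ (g : ψ.range) w)) ?_) ?_
    · intro a b hab
      simp only [Prod.mk.injEq] at hab
      refine (inv_mul_eq_one.mp ?_).symm
      obtain ⟨c, -, hc'⟩ := hlift _ ((b⁻¹ * a).2)
      have hc := hc' 1
      rw [pow_one, pow_one] at hc
      have hfix : ∀ z, σ (a : ψ.range) z = σ (b : ψ.range) z → ρ c z = z := by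
        intro z hz
        rw [← hc, Subgroup.coe_mul, rho_mul, hz, InvMemClass.coe_inv, rho_inv_apply]
      exact Subtype.ext (hσinj _ (hc.trans (hvw c (hfix v hab.1) (hfix w hab.2))))
    · rw [Nat.card_prod, hV]
      exact le_of_eq (by ring)
  refine ⟨Nat.card H, hC, Nat.card_pos, hHe, ?_⟩
  -- the planes and the space of rank four
  have hmain : ∀ p k : ℕ, p.Prime → e ^ 2 = p ^ k →
      ∀ r, r.Prime → r ∣ Nat.card H → r ≠ p → ∀ g ∈ H, (∃ j, orderOf g = r ^ j) → g ≠ 1 →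
      ∃ a < k, p ^ k ≡ p ^ a [MOD r] ∧ Nat.card (fixedBy (σ g)) = p ^ a ∧
        (k = 2 → a = 0) ∧ ¬ (r = 13 ∧ p = 3 ∧ k = 4 ∧ a = 1) := by
    intro p k hp hek r hr hrd hrp g hg ⟨j, hj⟩ hg1
    haveI := Fact.mk hr
    haveI := Fact.mk hp
    have hVk : Nat.card V = p ^ k := hV.trans hek
    have hmod := card_modEq_fixedBy σ g hj
    obtain ⟨a, ha, hae⟩ := (Nat.dvd_prime_pow hp).mp (hVk ▸ card_fixedBy_dvd σ g)
    rw [hVk, hae] at hmod
    have hak : a < k := lt_of_le_of_ne ha fun h =>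
      hg1 (hσinj g (eq_one_of_fixedBy_card σ g (by rw [hVk, hae, h])))
    obtain ⟨c, hc, hci⟩ := hlift g hg
    have hc1 : σ g = ρ c := by simpa using hci 1
    have hcr' : ρ (c ^ r ^ j) = 1 := by rw [← hci, ← hj, pow_orderOf_eq_one, map_one]
    have hexp : ∀ v : V, p • v = 0 := nsmul_eq_zero_of_cr hcr hVk
    refine ⟨a, hak, hmod, hae, fun hk2 => ?_, fun h13 => ?_⟩
    · subst hk2
      by_contra ha0
      have hnt : 1 < Nat.card (fixedBy (σ g)) := by rw [hae]; exact Nat.one_lt_pow ha0 hp.one_lt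
      haveI := Finite.one_lt_card_iff_nontrivial.mp hnt
      obtain ⟨v, hv⟩ := exists_ne (0 : fixedBy (σ g))
      refine hg1 (hσinj g (hc1.trans (trivial_of_fix_plane hL hπs hπm hπ0 hπa hexp hVk hc hcr'
        ((Nat.coprime_pow_left_iff (Nat.pos_of_ne_zero fun h => hg1 ?_) r p).mpr
          ((Nat.coprime_primes hr hp).mpr hrp)) (v := v) (fun h => hv (Subtype.ext h))
        (hc1 ▸ v.2))))
      rw [h, pow_zero, orderOf_eq_one_iff] at hj
      exact hj
    · obtain ⟨rfl, rfl, rfl, rfl⟩ := h13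
      exact no_thirteen hL hπs hπm hπ0 hπa hexp hVk hc hcr' (by rw [← hc1, hae]; norm_num)
  -- apply the small bound
  have hsmall : ∀ p k ℓ : ℕ, p.Prime → ℓ.Prime → e ^ 2 = p ^ k → ℓ ≠ p →
      (∀ r, r.Prime → r ≠ 2 → r ≠ p → r ≠ ℓ → ∀ a < k,
        p ^ k ≡ p ^ a [MOD r] → (k = 2 → a = 0) → ¬ (r = 13 ∧ p = 3 ∧ k = 4 ∧ a = 1) → False) →
      (∀ a < k, p ^ k ≡ p ^ a [MOD ℓ] → (k = 2 → a = 0) → a = 0) →
      ¬ ℓ ^ 2 ∣ p ^ k - 1 → Nat.card H ∣ ℓ * (ℓ - 1) := by
    intro p k ℓ hp hℓ hek hℓp hother hℓfree hsq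
    haveI := Fact.mk hp
    haveI := Fact.mk hℓ
    refine small_bound hcrσ (hV.trans hek) H hfaith hℓp (fun r hr hrd => ?_) ?_
      (by rw [hV.trans hek]; exact hsq)
    · by_contra hne
      simp only [not_or] at hne
      haveI := Fact.mk hr
      obtain ⟨y, hy⟩ := exists_prime_orderOf_dvd_card' r hrd
      obtain ⟨a, ha, hmod, -, h2, h13⟩ := hmain p k hp hek r hr hrd hne.1 (y : ψ.range) y.2
        ⟨1, by rw [Subgroup.orderOf_coe, hy, pow_one]⟩ (fun h => by
          rw [show y = 1 from Subtype.ext h, orderOf_one] at hy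
          exact hr.one_lt.ne hy)
      refine hother r hr (fun h2' => ?_) hne.1 hne.2 a ha hmod h2 h13
      subst h2'
      exact Nat.not_even_iff_odd.mpr hoddH (even_iff_two_dvd.mpr hrd)
    · intro g hg ⟨j, hj⟩ x hx hx0
      by_contra hg1
      have hℓd : ℓ ∣ Nat.card H := by
        have h := orderOf_dvd_natCard (⟨g, hg⟩ : H)
        rw [Subgroup.orderOf_mk, hj] at h
        exact (dvd_pow_self ℓ fun h0 => hg1 (orderOf_eq_one_iff.mp (by rw [hj, h0, pow_zero]))).trans h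
      obtain ⟨a, ha, hmod, hae, h2, -⟩ := hmain p k hp hek ℓ hℓ hℓd hℓp g hg ⟨j, hj⟩ hg1
      rw [hℓfree a ha hmod h2, pow_zero] at hae
      have hmem : x ∈ fixedBy (σ g) := hx
      rw [AddSubgroup.eq_bot_of_card_eq _ hae, AddSubgroup.mem_bot] at hmem
      exact hx0 hmem
  have hdvd : ∀ r d m : ℕ, m ≤ 81 → d ≤ m → m ≡ d [MOD r] → r ∣ m - d := fun r d m _ hdm h =>
    (Nat.modEq_iff_dvd' hdm).mp h.symm
  refine ⟨?_, ?_, ?_⟩
  · rintro rfl
    haveI : Fact (Nat.Prime 3) := ⟨Nat.prime_three⟩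
    have hH3 : IsPGroup 3 H := by
      refine IsPGroup.of_card (Nat.eq_prime_pow_of_unique_prime_dvd Nat.card_pos.ne' fun {r} hr hrd => ?_)
      by_contra h3
      haveI := Fact.mk hr
      obtain ⟨y, hy⟩ := exists_prime_orderOf_dvd_card' r hrd
      obtain ⟨a, ha, hmod, -, h2, -⟩ := hmain 3 2 Nat.prime_three (by norm_num) r hr hrd h3
        (y : ψ.range) y.2 ⟨1, by rw [Subgroup.orderOf_coe, hy, pow_one]⟩ (fun h => by
          rw [show y = 1 from Subtype.ext h, orderOf_one] at hy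
          exact hr.one_lt.ne hy)
      rw [h2 rfl] at hmod
      have h8 : r ∣ 8 := by simpa using (Nat.modEq_iff_dvd' (by norm_num)).mp hmod.symm
      have hr2 : r ≠ 2 := by
        rintro rfl
        exact Nat.not_even_iff_odd.mpr hoddH (even_iff_two_dvd.mpr hrd)
      have := Nat.le_of_dvd (by norm_num) h8
      interval_cases r <;> norm_num at *
    rw [Subgroup.card_eq_one, Subgroup.eq_bot_iff_forall]
    exact fun g hg => hfaith g hg (normal_pgroup_trivial hcrσ hV H hH3 g hg)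
  · intro he
    obtain ⟨j, hj⟩ := hoddH
    have hd : Nat.card H ∣ 6 := by
      have h6 : 3 * (3 - 1) = 6 := by norm_num
      rw [← h6]
      refine hsmall e 2 3 (by rcases he with rfl | rfl <;> norm_num) (by norm_num) rfl
        (by omega) ?_ (fun a _ _ h2 => h2 rfl) (by rcases he with rfl | rfl <;> norm_num)
      intro r hr hr2 hrp hr3 a _ hmod h2 _
      rw [h2 rfl, pow_zero] at hmod
      have h := (Nat.modEq_iff_dvd' (Nat.one_le_pow _ _ (by omega))).mp hmod.symm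
      rcases he with rfl | rfl
      · exact (prime_eq_of_dvd (i := 3) (j := 1) hr Nat.prime_two Nat.prime_three
          (by norm_num at h ⊢; exact h)).elim hr2 hr3
      · exact (prime_eq_of_dvd (i := 4) (j := 1) hr Nat.prime_two Nat.prime_three
          (by norm_num at h ⊢; exact h)).elim hr2 hr3
    have := Nat.le_of_dvd (by norm_num) hd
    interval_cases hh : Nat.card H <;> omega
  · rintro rfl
    obtain ⟨j, hj⟩ := hoddH
    have hd : Nat.card H ∣ 20 := by
      have h20 : 5 * (5 - 1) = 20 := by norm_num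
      rw [← h20]
      refine hsmall 3 4 5 Nat.prime_three (by norm_num) (by norm_num) (by norm_num) ?_ ?_
        (by norm_num)
      · intro r hr hr2 hrp hr5 a ha hmod _ h13
        rcases arith_nine hr ha
          (hdvd r (3 ^ a) (3 ^ 4) (by norm_num) (Nat.pow_le_pow_right (by norm_num) ha.le) hmod)
          with h | h | h | ⟨h, h'⟩
        exacts [hr2 h, hrp h, hr5 h, h13 ⟨h, rfl, rfl, h'⟩]
      · intro a ha hmod _
        interval_cases a
        · rfl
        all_goals exact absurd hmod (by decide)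
    have := Nat.le_of_dvd (by norm_num) hd
    interval_cases hh : Nat.card H <;> omega

end CfsgLib.OddBase
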