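import Cfsg.Agent.Lib.Solvable.Core

/-!
# Odd order linear groups: counting tools

Elementary tools for bases of size two of odd order groups: a counting criterion for a point with
trivial stabilizer, congruences for fixed points, and a bound for small completely reducible groups.
-/

set_option autoImplicit false
set_option maxHeartbeats 800000
set_option linter.style.haveILetI false

namespace CfsgLib.OddBase

open scoped Classical

universe u v

variable {G : Type u} [Group G] {V : Type v} [AddCommGroup V]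

/-- Invariance of a subgroup. -/
def Inv (ρ : G →* AddMonoid.End V) (U : AddSubgroup V) : Prop := ∀ g, ∀ x ∈ U, ρ g x ∈ U

/-- Complete reducibility. -/
def CR (ρ : G →* AddMonoid.End V) : Prop :=
  ∀ U, Inv ρ U → ∃ W, Inv ρ W ∧ U ⊓ W = ⊥ ∧ U ⊔ W = ⊤

/-- Two vectors whose common stabilizer is the kernel. -/
def Good (ρ : G →* AddMonoid.End V) : Prop :=
  ∃ x y : V, ∀ g, ρ g x = x → ρ g y = y → ρ g = 1

/-- The fixed points of an endomorphism. -/
def fixedBy (f : AddMonoid.End V) : AddSubgroup V where
  carrier := {x | f x = x}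
  zero_mem' := map_zero f
  add_mem' := fun {a b} ha hb => by
    simp only [Set.mem_ofPred_eq] at ha hb ⊢
    rw [map_add, ha, hb]
  neg_mem' := fun {a} ha => by
    simp only [Set.mem_ofPred_eq] at ha ⊢
    rw [map_neg, ha]

@[simp] theorem mem_fixedBy {f : AddMonoid.End V} {x : V} : x ∈ fixedBy f ↔ f x = x := Iff.rfl

theorem rho_mul (ρ : G →* AddMonoid.End V) (g h : G) (x : V) : ρ (g * h) x = ρ g (ρ h x) := by
  rw [map_mul]; rfl

theorem rho_one (ρ : G →* AddMonoid.End V) (x : V) : ρ 1 x = x := by rw [map_one]; rfl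

theorem rho_inv_apply (ρ : G →* AddMonoid.End V) (g : G) (x : V) : ρ g⁻¹ (ρ g x) = x := by
  rw [← rho_mul, inv_mul_cancel, rho_one]

theorem rho_apply_inv (ρ : G →* AddMonoid.End V) (g : G) (x : V) : ρ g (ρ g⁻¹ x) = x := by
  rw [← rho_mul, mul_inv_cancel, rho_one]

theorem rho_injective (ρ : G →* AddMonoid.End V) (g : G) : Function.Injective (ρ g) :=
  Function.LeftInverse.injective (rho_inv_apply ρ g)

theorem end_ext {f g : AddMonoid.End V} (h : ∀ x, f x = g x) : f = g := DFunLike.ext _ _ h

/-! ### Odd order -/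

theorem odd_orderOf [Finite G] (hG : Odd (Nat.card G)) (g : G) : Odd (orderOf g) :=
  Odd.of_dvd_nat hG (orderOf_dvd_natCard g)

theorem odd_card_of_dvd [Finite G] (hG : Odd (Nat.card G)) (H : Subgroup G) : Odd (Nat.card H) :=
  Odd.of_dvd_nat hG H.card_subgroup_dvd_card

/-- In an odd order group, fixing under the square means fixing. -/
theorem mem_of_sq_mem [Finite G] (hG : Odd (Nat.card G)) (H : Subgroup G) {g : G}
    (h : g ^ 2 ∈ H) : g ∈ H := by
  obtain ⟨j, hj⟩ := odd_orderOf hG g
  have : g = (g ^ 2) ^ (j + 1) := by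
    rw [← pow_mul, show 2 * (j + 1) = orderOf g + 1 by omega, pow_add, pow_orderOf_eq_one, pow_one,
      one_mul]
  rw [this]
  exact pow_mem h _

/-! ### Counting -/

/-- Some point has trivial stabilizer, if the fixed point counts are small. -/
theorem exists_trivial_stabilizer [Finite G] (hG : Odd (Nat.card G)) {X : Type*} [Fintype X]
    [MulAction G X] [Fintype G]
    (h : ∑ g ∈ Finset.univ.erase (1 : G), Nat.card {x : X // g • x = x} < 2 * Fintype.card X) :
    ∃ x : X, ∀ g : G, g • x = x → g = 1 := by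
  by_contra hc
  simp only [not_exists, not_forall] at hc
  have key : ∀ x : X, 2 ≤ ((Finset.univ.erase (1 : G)).filter fun g => g • x = x).card := by
    intro x
    obtain ⟨g, hg, hg1⟩ := hc x
    refine Finset.one_lt_card.mpr ⟨g, ?_, g⁻¹, ?_, ?_⟩
    · simp [hg, hg1]
    · simp [hg1, inv_smul_eq_iff, hg]
    · intro e
      refine hg1 ?_
      have h2 : g ^ 2 = 1 := by
        rw [sq]
        exact mul_eq_one_iff_eq_inv.mpr e
      simpa using mem_of_sq_mem hG ⊥ (g := g) (by simpa using h2)
  have hsum : ∑ g ∈ Finset.univ.erase (1 : G), Nat.card {x : X // g • x = x} =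
      ∑ x : X, ((Finset.univ.erase (1 : G)).filter fun g => g • x = x).card := by
    simp only [Nat.card_eq_fintype_card, Fintype.card_subtype, Finset.card_filter]
    exact Finset.sum_comm
  have h2 : 2 * Fintype.card X ≤
      ∑ x : X, ((Finset.univ.erase (1 : G)).filter fun g => g • x = x).card := by
    rw [mul_comm, ← smul_eq_mul, ← Finset.card_univ, ← Finset.sum_const]
    exact Finset.sum_le_sum fun x _ => key x
  omega

/-! ### Fixed points and congruences -/

/-- The action attached to a representation. -/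
abbrev actOf (ρ : G →* AddMonoid.End V) : MulAction G V :=
  MulAction.compHom V ρ

/-- `|V| ≡ |Fix x|` modulo `ℓ` for an element of order a power of `ℓ`. -/
theorem card_modEq_fixedBy [Finite G] [Finite V] (ρ : G →* AddMonoid.End V) {ℓ : ℕ} [Fact ℓ.Prime]
    (x : G) {j : ℕ} (hx : orderOf x = ℓ ^ j) :
    Nat.card V ≡ Nat.card (fixedBy (ρ x)) [MOD ℓ] := by
  letI := actOf (ρ.comp (Subgroup.zpowers x).subtype)
  have hP : IsPGroup ℓ (Subgroup.zpowers x) :=
    IsPGroup.of_card (n := j) (by rw [Nat.card_zpowers, hx])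
  have h := hP.card_modEq_card_fixedPoints (α := V)
  have e : MulAction.fixedPoints (Subgroup.zpowers x) V = (fixedBy (ρ x) : Set V) := by
    ext v
    rw [MulAction.mem_fixedPoints, SetLike.mem_coe, mem_fixedBy]
    refine ⟨fun h => h ⟨x, Subgroup.mem_zpowers x⟩, fun h => ?_⟩
    rintro ⟨y, hy⟩
    change ρ y v = v
    let S : Subgroup G :=
      { carrier := {g | ρ g v = v}
        one_mem' := rho_one ρ v
        mul_mem' := fun {a b} ha hb => by
          simp only [Set.mem_ofPred_eq] at ha hb ⊢
          rw [rho_mul, hb, ha]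
        inv_mem' := fun {a} ha => by
          simp only [Set.mem_ofPred_eq] at ha ⊢
          conv_lhs => rw [← ha]
          rw [rho_inv_apply] }
    exact (Subgroup.zpowers_le.mpr (show x ∈ S from h)) hy
  rw [e] at h
  exact h

theorem card_fixedBy_dvd (ρ : G →* AddMonoid.End V) (x : G) :
    Nat.card (fixedBy (ρ x)) ∣ Nat.card V :=
  AddSubgroup.card_addSubgroup_dvd_card _

theorem eq_one_of_fixedBy_card [Finite V] (ρ : G →* AddMonoid.End V) (x : G)
    (h : Nat.card (fixedBy (ρ x)) = Nat.card V) : ρ x = 1 := by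
  have := AddSubgroup.eq_top_of_card_eq (fixedBy (ρ x)) h
  refine end_ext fun v => ?_
  have hv : v ∈ fixedBy (ρ x) := by rw [this]; trivial
  exact hv

/-- A normal subgroup of `p`-power order acts trivially on a completely reducible `p`-group. -/
theorem normal_pgroup_trivial [Finite G] [Finite V] {ρ : G →* AddMonoid.End V} (hcr : CR ρ)
    {p : ℕ} [hp : Fact p.Prime] {k : ℕ} (hV : Nat.card V = p ^ k) (P : Subgroup G) [hPn : P.Normal]
    (hP : IsPGroup p P) : ∀ g ∈ P, ρ g = 1 := by
  let F : AddSubgroup V := ⨅ g : P, fixedBy (ρ g)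
  have hF : Inv ρ F := by
    intro g x hx
    simp only [F, AddSubgroup.mem_iInf, mem_fixedBy] at hx ⊢
    intro q
    rw [← rho_mul, show (q : G) * g = g * (g⁻¹ * q * g) by group, rho_mul]
    refine congrArg (ρ g) ?_
    exact hx ⟨g⁻¹ * q * g, by simpa using hPn.conj_mem q q.2 g⁻¹⟩
  obtain ⟨W, hW, hFW, htop⟩ := hcr F hF
  have hWbot : W = ⊥ := by
    by_contra hW0
    letI : MulAction P W :=
      { smul := fun g w => ⟨ρ g w, hW g w w.2⟩
        one_smul := fun w => Subtype.ext (rho_one ρ w.1)
        mul_smul := fun g h w => Subtype.ext (rho_mul ρ g h w.1) }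
    have hd : p ∣ Nat.card W := by
      obtain ⟨j, -, hj⟩ := (Nat.dvd_prime_pow hp.out).mp (hV ▸ W.card_addSubgroup_dvd_card)
      rcases Nat.eq_zero_or_pos j with rfl | hj0
      · exact absurd (AddSubgroup.eq_bot_of_card_eq W (by simpa using hj)) hW0
      · exact hj ▸ dvd_pow_self p hj0.ne'
    obtain ⟨b, hb, hb0⟩ := hP.exists_fixed_point_of_prime_dvd_card_of_fixed_point (α := W) hd
      (a := ⟨0, W.zero_mem⟩) fun g => Subtype.ext (map_zero (ρ g))
    refine hb0 (Subtype.ext ?_)
    have hbF : (b : V) ∈ F ⊓ W := ⟨AddSubgroup.mem_iInf.mpr fun g => congrArg Subtype.val (hb g),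
      b.2⟩
    rw [hFW] at hbF
    exact (AddSubgroup.mem_bot.mp hbF).symm
  rw [hWbot, sup_bot_eq] at htop
  intro g hg
  refine end_ext fun x => ?_
  have hx : x ∈ F := by rw [htop]; trivial
  simp only [F, AddSubgroup.mem_iInf, mem_fixedBy] at hx
  exact hx ⟨g, hg⟩

/-- A group moving every non-zero vector by all its non-identity elements. -/
theorem card_dvd_pred [Finite V] (ρ : G →* AddMonoid.End V) (P : Subgroup G)
    (hfree : ∀ g ∈ P, ∀ x : V, ρ g x = x → x ≠ 0 → g = 1) :
    Nat.card P ∣ Nat.card V - 1 := by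
  letI : MulAction P {x : V // x ≠ 0} :=
    { smul := fun g x => ⟨ρ g x, fun h => x.2 (rho_injective ρ g (h.trans (map_zero _).symm))⟩
      one_smul := fun x => Subtype.ext (rho_one ρ x.1)
      mul_smul := fun g h x => Subtype.ext (rho_mul ρ g h x.1) }
  have hst : ∀ x : {x : V // x ≠ 0}, MulAction.stabilizer P x = ⊥ := by
    intro x
    rw [Subgroup.eq_bot_iff_forall]
    intro g hg
    exact Subtype.ext (hfree g g.2 x (congrArg Subtype.val hg) x.2)
  have h := Nat.card_congr (MulAction.selfEquivOrbitsQuotientProd hst)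
  rw [Nat.card_prod] at h
  have h0 : Nat.card {x : V // x ≠ 0} = Nat.card V - 1 := by
    haveI := Fintype.ofFinite V
    simp [Nat.card_eq_fintype_card, Fintype.card_subtype_compl]
  exact ⟨_, h0.symm.trans (h.trans (mul_comm _ _))⟩

/-- A small completely reducible odd order group: at most one prime `ℓ` besides the characteristic,
occurring to the first power. -/
theorem small_bound [Finite G] [Finite V] [Group.IsSolvable G] {ρ : G →* AddMonoid.End V}
    (hcr : CR ρ) {p : ℕ} [Fact p.Prime] {k : ℕ} (hV : Nat.card V = p ^ k) (H : Subgroup G)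
    [hHn : H.Normal] (hfaith : ∀ g ∈ H, ρ g = 1 → g = 1) {ℓ : ℕ} [hℓ : Fact ℓ.Prime] (hℓp : ℓ ≠ p)
    (hprimes : ∀ r : ℕ, r.Prime → r ∣ Nat.card H → r = p ∨ r = ℓ)
    (hfree : ∀ g ∈ H, (∃ j, orderOf g = ℓ ^ j) → ∀ x : V, ρ g x = x → x ≠ 0 → g = 1)
    (hsq : ¬ ℓ ^ 2 ∣ Nat.card V - 1) :
    Nat.card H ∣ ℓ * (ℓ - 1) := by
  have hnop : ∀ P : Subgroup G, P.Normal → P ≤ H → IsPGroup p P → P = ⊥ := by
    intro P hPn hPH hP
    rw [Subgroup.eq_bot_iff_forall]
    exact fun g hg => hfaith g (hPH hg) (normal_pgroup_trivial hcr hV P hP g hg)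
  by_cases hH : H = ⊥
  · simp [hH]
  obtain ⟨M, hMn, hM0, hMH, hmin⟩ := CfsgLib.Solvable.exists_minimal_normal_le H hH
  haveI := hMn
  obtain ⟨hMc, r, hr, hexp⟩ := CfsgLib.Solvable.minimal_normal_elementary_abelian M hM0 hmin
  haveI := Fact.mk hr
  have hMr : IsPGroup r M := fun x => ⟨1, Subtype.ext (by simpa using hexp x x.2)⟩
  have hr' : r = ℓ := by
    obtain ⟨j, hj⟩ := IsPGroup.iff_card.mp hMr
    have hj0 : j ≠ 0 := fun h0 => hM0 (Subgroup.eq_bot_of_card_eq M (by rw [hj, h0, pow_zero]))
    refine (hprimes r hr ?_).resolve_left fun hrp => hM0 (hnop M hMn hMH (hrp ▸ hMr))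
    exact ((dvd_pow_self r hj0).trans hj.symm.dvd).trans (Subgroup.card_dvd_of_le hMH)
  subst hr'
  have hlfree : ∀ Q : Subgroup G, Q ≤ H → IsPGroup r Q → Nat.card Q ∣ r := by
    intro Q hQH hQ
    have hd : Nat.card Q ∣ Nat.card V - 1 := card_dvd_pred ρ Q fun g hg =>
      hfree g (hQH hg) (by
        obtain ⟨j, hj⟩ := IsPGroup.iff_orderOf.mp hQ ⟨g, hg⟩
        exact ⟨j, by rw [← hj, Subgroup.orderOf_mk]⟩)
    obtain ⟨j, hj⟩ := IsPGroup.iff_card.mp hQ
    rcases le_or_gt j 1 with hj1 | hj1
    · exact hj ▸ (pow_dvd_pow r hj1).trans (by simp)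
    · exact absurd ((pow_dvd_pow r hj1).trans (hj ▸ hd)) hsq
  have hMcard : Nat.card M = r := by
    refine ((Nat.dvd_prime hr).mp (hlfree M hMH hMr)).resolve_left fun h => hM0 ?_
    exact Subgroup.eq_bot_of_card_eq M h
  let φ : ↥H →* MulAut ↥M := (MulAut.conjNormal (H := M)).comp H.subtype
  have hcyc : IsCyclic M := isCyclic_of_prime_card hMcard
  have hquot : φ.ker.index ∣ r - 1 := by
    rw [Subgroup.index_ker]
    refine (Subgroup.card_subgroup_dvd_card φ.range).trans ?_
    rw [IsCyclic.card_mulAut, hMcard, Nat.totient_prime hr]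
  let K : Subgroup G := H ⊓ Subgroup.centralizer (M : Set G)
  have hK : φ.ker = K.subgroupOf H := by
    ext ⟨g, hg⟩
    simp only [MonoidHom.mem_ker, Subgroup.mem_subgroupOf, K, Subgroup.mem_inf, hg, true_and,
      Subgroup.mem_centralizer_iff, φ, MonoidHom.comp_apply, Subgroup.coe_subtype]
    constructor
    · intro h m hm
      have h2 : g * m * g⁻¹ = m := by
        have h3 := congrArg Subtype.val (DFunLike.congr_fun h ⟨m, hm⟩)
        rwa [MulAut.conjNormal_apply, MulAut.one_apply] at h3
      rw [mul_inv_eq_iff_eq_mul] at h2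
      exact h2.symm
    · intro h
      refine MulEquiv.ext fun m => Subtype.ext ?_
      show g * (m : G) * g⁻¹ = m
      rw [← h m m.2, mul_inv_cancel_right]
  haveI : K.Normal := inferInstanceAs (H ⊓ Subgroup.centralizer (M : Set G)).Normal
  have hMK : M ≤ K := le_inf hMH fun m hm => Subgroup.mem_centralizer_iff.mpr fun m' hm' =>
    congrArg Subtype.val (hMc.is_comm.comm (⟨m', hm'⟩ : M) ⟨m, hm⟩)
  have hKM : K = M := by
    by_cases hpr : p ∣ Nat.card K
    · exfalso
      let S : Sylow p K := default
      have hSc := S.card_eq_multiplicity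
      let S' : Subgroup G := (S : Subgroup K).map K.subtype
      have hS'c : Nat.card S' = p ^ (Nat.card K).factorization p := by
        rw [Subgroup.card_map_of_injective K.subtype_injective]; exact hSc
      -- every element of `K` is a product of an element of `M` and one of `S`
      have hsup : M.subgroupOf K ⊔ (S : Subgroup K) = ⊤ := by
        apply Subgroup.eq_top_of_card_eq
        refine Nat.dvd_antisymm (Subgroup.card_subgroup_dvd_card _) ?_
        rw [Nat.dvd_iff_prime_pow_dvd_dvd]
        intro q j hq hqj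
        rcases Nat.eq_zero_or_pos j with rfl | hj
        · simp
        rcases hprimes q hq ((dvd_pow_self q hj.ne').trans (hqj.trans (Subgroup.card_dvd_of_le
          inf_le_left))) with rfl | rfl
        · refine (Dvd.dvd.trans ?_ (Subgroup.card_dvd_of_le
            (le_sup_right : (S : Subgroup K) ≤ M.subgroupOf K ⊔ (S : Subgroup K))))
          rw [hSc]
          exact pow_dvd_pow _ ((hq.pow_dvd_iff_le_factorization Nat.card_pos.ne').mp hqj)
        · refine (Dvd.dvd.trans ?_ (Subgroup.card_dvd_of_le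
            (le_sup_left : M.subgroupOf K ≤ M.subgroupOf K ⊔ (S : Subgroup K))))
          rw [Nat.card_congr (Subgroup.subgroupOfEquivOfLe hMK).toEquiv, hMcard]
          haveI := Fact.mk hq
          let T : Sylow q K := default
          have hT := hlfree ((T : Subgroup K).map K.subtype) (by
            rw [Subgroup.map_le_iff_le_comap]
            exact fun x _ => x.2.1) (T.2.map _)
          rw [Subgroup.card_map_of_injective K.subtype_injective, T.card_eq_multiplicity] at hT
          exact ((pow_dvd_pow _ ((hq.pow_dvd_iff_le_factorization Nat.card_pos.ne').mp hqj)).trans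
            hT)
      have hSn : (S : Subgroup K).Normal := by
        rw [← Subgroup.normalizer_eq_top_iff, eq_top_iff, ← hsup]
        refine sup_le ?_ Subgroup.le_normalizer
        intro m hm
        rw [Subgroup.mem_normalizer_iff]
        intro s
        have hc : m * s * m⁻¹ = s := by
          apply Subtype.ext
          have := Subgroup.mem_centralizer_iff.mp s.2.2 m hm
          push_cast
          rw [this, mul_inv_cancel_right]
        rw [hc]
      haveI := Sylow.characteristic_of_normal S hSn
      have hS'n : S'.Normal := ConjAct.normal_of_characteristic_of_normal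
      have h0 := hnop S' hS'n (by
        rw [Subgroup.map_le_iff_le_comap]
        exact fun x _ => x.2.1) (S.2.map _)
      rw [h0, Subgroup.card_bot] at hS'c
      have hpos : 0 < (Nat.card K).factorization p :=
        Nat.Prime.factorization_pos_of_dvd Fact.out Nat.card_pos.ne' hpr
      exact absurd hS'c.symm (Nat.one_lt_pow hpos.ne' (Fact.out : p.Prime).one_lt).ne'
    · refine (Subgroup.eq_of_le_of_card_ge hMK ?_).symm
      rw [hMcard]
      have hKr : IsPGroup r K := by
        exact IsPGroup.of_card (Nat.eq_prime_pow_of_unique_prime_dvd Nat.card_pos.ne' fun {q} hq hqd =>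
          (hprimes q hq (hqd.trans (Subgroup.card_dvd_of_le inf_le_left))).resolve_left
            fun h => hpr (h ▸ hqd))
      exact Nat.le_of_dvd hr.pos (hlfree K inf_le_left hKr)
  have hcard : Nat.card H = Nat.card φ.ker * φ.ker.index := φ.ker.card_mul_index.symm
  rw [hcard, hK, Nat.card_congr (Subgroup.subgroupOfEquivOfLe (show K ≤ H from inf_le_left)).toEquiv,
    hKM, hMcard]
  rw [hK, hKM] at hquot
  exact mul_dvd_mul_left _ hquot

end CfsgLib.OddBase
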