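import Mathlib
import Cfsg.Agent.Lib.OddBase.Basic

/-!
# Fixed point counts for bases of size two

The bounds on fixed point spaces, the counting on pairs of vectors, and the arithmetic needed.
-/

set_option autoImplicit false
set_option maxHeartbeats 800000
set_option linter.style.haveILetI false
set_option linter.unusedSectionVars false

namespace CfsgLib.OddBase

open scoped commutatorElement Classical

universe u

variable {G V : Type u} [Group G] [AddCommGroup V] [Finite V] (ρ : G →* AddMonoid.End V)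

/-- The square of a fixed point count is bounded by the count of a commutator. -/
theorem fixed_sq (g f : G) :
    Nat.card (fixedBy (ρ g)) ^ 2 ≤ Nat.card V * Nat.card (fixedBy (ρ ⁅g, f⁆)) := by
  let F := fixedBy (ρ g)
  let Φ : F × F →+ V := AddMonoidHom.mk' (fun p => (p.1 : V) - ρ f p.2) fun p q => by
    simp only [Prod.fst_add, Prod.snd_add, AddSubgroup.coe_add, map_add]
    abel
  have hker : ∀ p : Φ.ker, ρ ⁅g, f⁆ (p.1.1 : V) = p.1.1 := by
    rintro ⟨⟨⟨a, ha⟩, ⟨b, hb⟩⟩, hp⟩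
    change a - ρ f b = 0 at hp
    rw [sub_eq_zero] at hp
    show ρ ⁅g, f⁆ a = a
    rw [commutatorElement_def, rho_mul, show ρ f⁻¹ a = b by rw [hp]; exact rho_inv_apply ρ f b,
      rho_mul, rho_mul, show ρ g⁻¹ b = b by
        conv_lhs => rw [← show ρ g b = b from hb]
        exact rho_inv_apply ρ g b, ← hp]
    exact ha
  have hinj : Function.Injective
      (fun p : Φ.ker => (⟨p.1.1, hker p⟩ : fixedBy (ρ ⁅g, f⁆))) := by
    intro p q h
    have h1 : (p.1.1 : V) = q.1.1 := (congrArg Subtype.val h :)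
    have hp : (p.1.1 : V) - ρ f p.1.2 = 0 := p.2
    have hq : (q.1.1 : V) - ρ f q.1.2 = 0 := q.2
    rw [sub_eq_zero] at hp hq
    refine Subtype.ext (Prod.ext (Subtype.ext h1) (Subtype.ext (rho_injective ρ f ?_)))
    rw [← hp, ← hq, h1]
  calc Nat.card F ^ 2 = Nat.card (F × F) := by rw [Nat.card_prod, sq]
    _ = Nat.card Φ.range * Nat.card Φ.ker := by
      rw [AddSubgroup.card_eq_card_quotient_mul_card_addSubgroup Φ.ker,
        Nat.card_congr (QuotientAddGroup.quotientKerEquivRange Φ).toEquiv]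
    _ ≤ Nat.card V * Nat.card (fixedBy (ρ ⁅g, f⁆)) := Nat.mul_le_mul
      (Nat.le_of_dvd Nat.card_pos (AddSubgroup.card_addSubgroup_dvd_card _))
      (Nat.card_le_card_of_injective _ hinj)

/-- Three translates of a fixed point space are independent. -/
theorem fixed_cube (y f z : G) (hz : y * f = z * (f * y)) (hzy : y * z = z * y)
    (hzf : f * z = z * f) (h1 : ∀ x, ρ z x = x → x = 0) (h2 : ∀ x, ρ (z * z) x = x → x = 0) :
    Nat.card (fixedBy (ρ y)) ^ 3 ≤ Nat.card V := by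
  let F := fixedBy (ρ y)
  let Φ : F × F × F →+ V :=
    AddMonoidHom.mk' (fun p => (p.1 : V) + ρ f p.2.1 + ρ f (ρ f p.2.2)) fun p q => by
      simp only [Prod.fst_add, Prod.snd_add, AddSubgroup.coe_add, map_add]
      abel
  have hzz : ∀ x, ρ z x = 0 → x = 0 := fun x h => rho_injective ρ z (h.trans (map_zero _).symm)
  have hyf : ∀ x, ρ y (ρ f x) = ρ z (ρ f (ρ y x)) := fun x => by
    rw [← rho_mul, hz, rho_mul, rho_mul]
  have hcy : ∀ x, ρ y (ρ z x) = ρ z (ρ y x) := fun x => by rw [← rho_mul, hzy, rho_mul]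
  have hcf : ∀ x, ρ f (ρ z x) = ρ z (ρ f x) := fun x => by rw [← rho_mul, hzf, rho_mul]
  have hinj : Function.Injective Φ := by
    rw [injective_iff_map_eq_zero]
    rintro ⟨⟨a, ha⟩, ⟨b, hb⟩, ⟨c, hc⟩⟩ h
    rw [mem_fixedBy] at ha hb hc
    change a + ρ f b + ρ f (ρ f c) = 0 at h
    obtain ⟨B, hB⟩ : ∃ B, B = ρ f b := ⟨_, rfl⟩
    obtain ⟨C, hC⟩ : ∃ C, C = ρ f (ρ f c) := ⟨_, rfl⟩
    rw [← hB, ← hC] at h
    have yB : ρ y B = ρ z B := by rw [hB, hyf, hb]
    have yC : ρ y C = ρ z (ρ z C) := by rw [hC, hyf, hyf, hc, hcf]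
    have e1 : a + ρ z B + ρ z (ρ z C) = 0 := by
      have := congrArg (ρ y) h
      rwa [map_add, map_add, map_zero, ha, yB, yC] at this
    have e2 : a + ρ z (ρ z B) + ρ z (ρ z (ρ z (ρ z C))) = 0 := by
      have := congrArg (ρ y) e1
      rwa [map_add, map_add, map_zero, ha, hcy, yB, hcy, hcy, yC] at this
    have d1 : (ρ z B - B) + (ρ z (ρ z C) - C) = 0 := by
      rw [← sub_self (0 : V)]
      nth_rw 1 [← e1]
      nth_rw 1 [← h]
      abel
    have d2 : (ρ z (ρ z B) - ρ z B) + (ρ z (ρ z (ρ z (ρ z C))) - ρ z (ρ z C)) = 0 := by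
      rw [← sub_self (0 : V)]
      nth_rw 1 [← e2]
      nth_rw 1 [← e1]
      abel
    have d3 := congrArg (ρ z) d1
    rw [map_add, map_sub, map_zero] at d3
    have hu : ρ z (ρ z (ρ z (ρ z C) - C)) = ρ z (ρ z (ρ z C) - C) := by
      have := d2.trans d3.symm
      rw [add_right_inj] at this
      refine Eq.trans ?_ this
      rw [map_sub, map_sub]
    have hu0 : ρ z (ρ z C) - C = 0 := hzz _ (h1 _ hu)
    have hC0 : C = 0 := h2 C (by rw [rho_mul]; exact sub_eq_zero.mp hu0)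
    have hB0 : B = 0 := by
      rw [hu0, add_zero, sub_eq_zero] at d1
      exact h1 B d1
    rw [hB0, hC0, add_zero, add_zero] at h
    refine Prod.ext (Subtype.ext h) (Prod.ext (Subtype.ext (rho_injective ρ f ?_))
      (Subtype.ext (rho_injective ρ f (rho_injective ρ f ?_))))
    · exact (hB.symm.trans hB0).trans (map_zero _).symm
    · show ρ f (ρ f c) = ρ f (ρ f 0)
      rw [map_zero, map_zero, ← hC, hC0]
  calc Nat.card F ^ 3 = Nat.card (F × F × F) := by rw [Nat.card_prod, Nat.card_prod]; ring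
    _ ≤ Nat.card V := Nat.card_le_card_of_injective _ hinj

/-- Two vectors from the fixed point counts. -/
theorem good_of_count [Finite G] (hG : Odd (Nat.card G))
    (C : Subgroup G) (hout : ∀ g ∉ C, Nat.card (fixedBy (ρ g)) ^ 2 ≤ Nat.card V)
    (hin : ∀ g ∈ C, g ≠ 1 → Nat.card (fixedBy (ρ g)) ^ 3 ≤ Nat.card V ^ 2)
    (hcase : (C = ⊤ ∧ Nat.card C ^ 3 < 8 * Nat.card V ^ 2) ∨
      (27 * Nat.card C ^ 3 < 64 * Nat.card V ^ 2 ∧ 3 * Nat.card G < 2 * Nat.card V)) :
    Good ρ := by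
  haveI := Fintype.ofFinite G
  haveI := Fintype.ofFinite V
  letI : MulAction G (V × V) :=
    { smul := fun g p => (ρ g p.1, ρ g p.2)
      one_smul := fun p => Prod.ext (rho_one ρ p.1) (rho_one ρ p.2)
      mul_smul := fun g h p => Prod.ext (rho_mul ρ g h p.1) (rho_mul ρ g h p.2) }
  obtain ⟨X, hX⟩ : ∃ X, X = Nat.card V := ⟨_, rfl⟩
  have hX0 : 0 < X := hX ▸ Nat.card_pos
  let F : G → ℕ := fun g => Nat.card (fixedBy (ρ g))
  have hsum : ∑ g ∈ Finset.univ.erase (1 : G), F g ^ 2 < 2 * X ^ 2 := by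
    let S := (Finset.univ.erase (1 : G)).filter fun g => g ∈ C
    have hS : S.card < Nat.card C := by
      rw [Nat.card_eq_fintype_card, Fintype.card_subtype]
      refine Finset.card_lt_card ((Finset.ssubset_iff_of_subset fun g hg => ?_).mpr
        ⟨1, by simp, by simp [S]⟩)
      simp only [S, Finset.mem_filter] at hg
      simp [hg.2]
    have hbound : ∀ c : ℕ, 0 < c → Nat.card C ^ 3 * X ^ 4 ≤ c ^ 3 * X ^ 6 →
        ∑ g ∈ S, F g ^ 2 < c * X ^ 2 := by
      intro c hc0 hc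
      have hterm : ∀ g ∈ S, Nat.card C * F g ^ 2 ≤ c * X ^ 2 := by
        intro g hg
        simp only [S, Finset.mem_filter, Finset.mem_erase] at hg
        refine (Nat.pow_le_pow_iff_left (n := 3) (by norm_num)).mp ?_
        calc (Nat.card C * F g ^ 2) ^ 3 = Nat.card C ^ 3 * (F g ^ 3) ^ 2 := by ring
          _ ≤ Nat.card C ^ 3 * (X ^ 2) ^ 2 :=
            Nat.mul_le_mul_left _ (Nat.pow_le_pow_left (hX ▸ hin g hg.2 hg.1.1) 2)
          _ = Nat.card C ^ 3 * X ^ 4 := by ring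
          _ ≤ c ^ 3 * X ^ 6 := hc
          _ = (c * X ^ 2) ^ 3 := by ring
      refine Nat.lt_of_mul_lt_mul_left (a := Nat.card C) ?_
      calc Nat.card C * ∑ g ∈ S, F g ^ 2 ≤ S.card * (c * X ^ 2) := by
            rw [Finset.mul_sum, ← smul_eq_mul]
            exact Finset.sum_le_card_nsmul _ _ _ hterm
        _ < Nat.card C * (c * X ^ 2) := Nat.mul_lt_mul_of_pos_right hS (by positivity)
    rcases hcase with ⟨htop, h8⟩ | ⟨h27, hG3⟩
    · have hSu : S = Finset.univ.erase (1 : G) := by simp [S, htop]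
      rw [← hSu]
      refine hbound 2 two_pos ?_
      calc Nat.card C ^ 3 * X ^ 4 ≤ 8 * X ^ 2 * X ^ 4 := Nat.mul_le_mul_right _ (hX ▸ h8.le)
        _ = 2 ^ 3 * X ^ 6 := by ring
    · have hin' : 3 * ∑ g ∈ S, F g ^ 2 < 4 * X ^ 2 := by
        have hterm : ∀ g ∈ S, 3 * Nat.card C * F g ^ 2 ≤ 4 * X ^ 2 := by
          intro g hg
          simp only [S, Finset.mem_filter, Finset.mem_erase] at hg
          refine (Nat.pow_le_pow_iff_left (n := 3) (by norm_num)).mp ?_
          calc (3 * Nat.card C * F g ^ 2) ^ 3 = 27 * Nat.card C ^ 3 * (F g ^ 3) ^ 2 := by ring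
            _ ≤ 27 * Nat.card C ^ 3 * (X ^ 2) ^ 2 :=
              Nat.mul_le_mul_left _ (Nat.pow_le_pow_left (hX ▸ hin g hg.2 hg.1.1) 2)
            _ ≤ 64 * X ^ 2 * (X ^ 2) ^ 2 := Nat.mul_le_mul_right _ (hX ▸ h27.le)
            _ = (4 * X ^ 2) ^ 3 := by ring
        refine Nat.lt_of_mul_lt_mul_left (a := Nat.card C) ?_
        calc Nat.card C * (3 * ∑ g ∈ S, F g ^ 2) = ∑ g ∈ S, 3 * Nat.card C * F g ^ 2 := by
              rw [← Finset.mul_sum]; ring
          _ ≤ S.card * (4 * X ^ 2) := by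
              rw [← smul_eq_mul]
              exact Finset.sum_le_card_nsmul _ _ _ hterm
          _ < Nat.card C * (4 * X ^ 2) := Nat.mul_lt_mul_of_pos_right hS (by positivity)
      have hout' : ∑ g ∈ (Finset.univ.erase (1 : G)).filter (fun g => g ∉ C), F g ^ 2 ≤
          Nat.card G * X := by
        refine le_trans (Finset.sum_le_card_nsmul _ _ X fun g hg => ?_) ?_
        · exact hX ▸ hout g (Finset.mem_filter.mp hg).2
        · rw [smul_eq_mul, Nat.card_eq_fintype_card]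
          exact Nat.mul_le_mul_right _ (Finset.card_le_univ _)
      rw [← Finset.sum_filter_add_sum_filter_not _ (fun g => g ∈ C)]
      change ∑ g ∈ S, F g ^ 2 + _ < _
      rw [← hX] at hG3
      nlinarith [Nat.mul_le_mul_right X hG3.le]
  have hfix : ∀ g : G, Nat.card {p : V × V // g • p = p} = F g ^ 2 := by
    intro g
    rw [sq, ← Nat.card_prod]
    exact Nat.card_congr
      { toFun := fun p => (⟨p.1.1, congrArg Prod.fst p.2⟩, ⟨p.1.2, congrArg Prod.snd p.2⟩)
        invFun := fun p => ⟨(p.1, p.2), Prod.ext p.1.2 p.2.2⟩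
        left_inv := fun p => rfl
        right_inv := fun p => rfl }
  obtain ⟨⟨v, w⟩, hvw⟩ := exists_trivial_stabilizer hG (X := V × V) (by
    simp only [hfix, ← Nat.card_eq_fintype_card, Nat.card_prod, ← hX]
    rwa [← sq])
  refine ⟨v, w, fun g h1 h2 => ?_⟩
  rw [hvw g (Prod.ext h1 h2), map_one]

/-- The arithmetic of the homogeneous case. -/
theorem count_arith {e q h : ℕ} (he : Odd e) (he3 : 3 ≤ e) (hq : 4 ≤ q)
    (hp : ∀ r : ℕ, r.Prime → r ∣ e → r < q) (h34 : e = 3 → 7 ≤ q) (h4 : h ≤ e ^ 4)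
    (h3 : e = 3 → h = 1) (h57 : e = 5 ∨ e = 7 → h ≤ 3) (h9 : e = 9 → h ≤ 5) :
    27 * ((q - 1) * e ^ 2 * h) ^ 3 < 64 * (q ^ e) ^ 2 := by
  have key : ∀ H q₀ : ℕ, h ≤ H → q₀ ≤ q → 27 * (e ^ 2 * H) ^ 3 < 64 * q₀ ^ (2 * e - 3) →
      27 * ((q - 1) * e ^ 2 * h) ^ 3 < 64 * (q ^ e) ^ 2 := by
    intro H q₀ hH hq₀ hlt
    calc 27 * ((q - 1) * e ^ 2 * h) ^ 3 ≤ 27 * (q * e ^ 2 * H) ^ 3 :=
          Nat.mul_le_mul_left _ (Nat.pow_le_pow_left
            (Nat.mul_le_mul (Nat.mul_le_mul_right _ (Nat.sub_le q 1)) hH) 3)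
      _ = q ^ 3 * (27 * (e ^ 2 * H) ^ 3) := by ring
      _ < q ^ 3 * (64 * q ^ (2 * e - 3)) := Nat.mul_lt_mul_of_pos_left
          (hlt.trans_le (Nat.mul_le_mul_left _ (Nat.pow_le_pow_left hq₀ _))) (by positivity)
      _ = 64 * (q ^ e) ^ 2 := by
          rw [← mul_assoc, mul_comm (q ^ 3) 64, mul_assoc, ← pow_add, ← pow_mul]
          congr 2
          omega
  by_cases hbig : 27 ≤ e
  · refine key (e ^ 4) 4 h4 hq ?_
    have h16 : ∀ m : ℕ, 27 ≤ m → 27 * m ^ 18 < 16 ^ m := by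
      intro m hm
      induction m, hm using Nat.le_induction with
      | base => norm_num
      | succ m hm ih =>
        have h1 : 27 ^ 18 * (m + 1) ^ 18 ≤ 27 ^ 18 * (16 * m ^ 18) := by
          calc 27 ^ 18 * (m + 1) ^ 18 = (27 * (m + 1)) ^ 18 := (mul_pow _ _ _).symm
            _ ≤ (28 * m) ^ 18 := Nat.pow_le_pow_left (by omega) _
            _ = 28 ^ 18 * m ^ 18 := mul_pow _ _ _
            _ ≤ (27 ^ 18 * 16) * m ^ 18 := Nat.mul_le_mul_right _ (by norm_num)
            _ = 27 ^ 18 * (16 * m ^ 18) := mul_assoc _ _ _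
        have h2 : (m + 1) ^ 18 ≤ 16 * m ^ 18 := Nat.le_of_mul_le_mul_left h1 (by norm_num)
        rw [pow_succ 16]
        omega
    have e16 : (16 : ℕ) ^ e = 64 * 4 ^ (2 * e - 3) := by
      rw [show (64 : ℕ) = 4 ^ 3 by norm_num, ← pow_add, show (16 : ℕ) = 4 ^ 2 by norm_num,
        ← pow_mul]
      congr 1
      omega
    rw [← e16, show (e ^ 2 * e ^ 4) ^ 3 = e ^ 18 by ring]
    exact h16 e hbig
  · have hodd : e % 2 = 1 := Nat.odd_iff.mp he
    have hd : ∀ r : ℕ, r.Prime → r ∣ e → r + 1 ≤ q := fun r hr hre => hp r hr hre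
    interval_cases e <;> (try omega)
    · exact key 1 7 (h3 rfl).le (h34 rfl) (by norm_num)
    · exact key 3 6 (h57 (Or.inl rfl)) (hd 5 (by norm_num) (by norm_num)) (by norm_num)
    · exact key 3 8 (h57 (Or.inr rfl)) (hd 7 (by norm_num) (by norm_num)) (by norm_num)
    · exact key 5 4 (h9 rfl) hq (by norm_num)
    · exact key _ 12 h4 (hd 11 (by norm_num) (by norm_num)) (by norm_num)
    · exact key _ 14 h4 (hd 13 (by norm_num) (by norm_num)) (by norm_num)
    · exact key _ 6 h4 (hd 5 (by norm_num) (by norm_num)) (by norm_num)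
    · exact key _ 18 h4 (hd 17 (by norm_num) (by norm_num)) (by norm_num)
    · exact key _ 20 h4 (hd 19 (by norm_num) (by norm_num)) (by norm_num)
    · exact key _ 8 h4 (hd 7 (by norm_num) (by norm_num)) (by norm_num)
    · exact key _ 24 h4 (hd 23 (by norm_num) (by norm_num)) (by norm_num)
    · exact key _ 6 h4 (hd 5 (by norm_num) (by norm_num)) (by norm_num)

end CfsgLib.OddBase
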