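import Cfsg.Agent.Lib.OddBase.Basic

/-!
# The symplectic layer over a maximal abelian normal subgroup

In a solvable group with a cyclic maximal abelian normal subgroup `Z` there is a normal subgroup
`N` between `Z` and the centralizer `C` of `Z` with `N/Z` a completely reducible symplectic module
and `C_C(N/Z) = N`.
-/

set_option autoImplicit false
set_option maxHeartbeats 800000
set_option linter.style.haveILetI false
set_option linter.unusedSectionVars false

namespace CfsgLib.OddBase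

open scoped commutatorElement

universe u

variable {A : Type u} [Group A]

/-- The symplectic layer. -/
structure IsLayer (Z N : Subgroup A) : Prop where
  normal : N.Normal
  le : Z ≤ N
  leC : N ≤ Subgroup.centralizer (Z : Set A)
  comm : ∀ x ∈ N, ∀ y ∈ N, ⁅x, y⁆ ∈ Z
  nondeg : ∀ x ∈ N, (∀ y ∈ N, x * y = y * x) → x ∈ Z
  semisimple : ∀ U : Subgroup A, U.Normal → Z ≤ U → U ≤ N →
    ∃ W : Subgroup A, W.Normal ∧ Z ≤ W ∧ W ≤ N ∧ U ⊓ W = Z ∧ U ⊔ W = N

variable {Z : Subgroup A}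

theorem cent_comm {x z : A} (hx : x ∈ Subgroup.centralizer (Z : Set A)) (hz : z ∈ Z) :
    x * z = z * x :=
  (Subgroup.mem_centralizer_iff.mp hx z hz).symm

theorem comm_mul_right {x y y' : A} (hy : y ∈ Subgroup.centralizer (Z : Set A))
    (h : ⁅x, y'⁆ ∈ Z) : ⁅x, y * y'⁆ = ⁅x, y⁆ * ⁅x, y'⁆ := by
  rw [show ⁅x, y * y'⁆ = ⁅x, y⁆ * (y * ⁅x, y'⁆ * y⁻¹) by simp [commutatorElement_def, mul_assoc],
    cent_comm hy h, mul_inv_cancel_right]

theorem comm_mul_left {x x' y : A} (hx : x ∈ Subgroup.centralizer (Z : Set A))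
    (h : ⁅x', y⁆ ∈ Z) : ⁅x * x', y⁆ = ⁅x', y⁆ * ⁅x, y⁆ := by
  rw [show ⁅x * x', y⁆ = (x * ⁅x', y⁆ * x⁻¹) * ⁅x, y⁆ by simp [commutatorElement_def, mul_assoc],
    cent_comm hx h, mul_inv_cancel_right]

theorem cent_of_comm (hZc : ∀ a ∈ Z, ∀ b ∈ Z, a * b = b * a) :
    Z ≤ Subgroup.centralizer (Z : Set A) :=
  fun a ha => Subgroup.mem_centralizer_iff.mpr fun b hb => (hZc a ha b hb).symm

/-- A maximal layer is self-centralizing in the centralizer of `Z`. -/
theorem exists_layer [Finite A] [Group.IsSolvable A] [hZn : Z.Normal]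
    (hZc : ∀ a ∈ Z, ∀ b ∈ Z, a * b = b * a)
    (hmax : ∀ B : Subgroup A, B.Normal → Z ≤ B → (∀ a ∈ B, ∀ b ∈ B, a * b = b * a) → B = Z) :
    ∃ N, IsLayer Z N ∧
      ∀ c ∈ Subgroup.centralizer (Z : Set A), (∀ y ∈ N, c * y = y * c) → c ∈ Z := by
  have hbase : IsLayer Z Z := by
    refine ⟨hZn, le_rfl, cent_of_comm hZc, fun x hx y hy => ?_, fun x hx _ => hx,
      fun U hU hZU hUZ => ⟨Z, hZn, le_rfl, le_rfl, inf_eq_right.mpr hZU, sup_eq_right.mpr hUZ⟩⟩
    rw [commutatorElement_def]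
    exact mul_mem (mul_mem (mul_mem hx hy) (inv_mem hx)) (inv_mem hy)
  obtain ⟨N, hN⟩ := Set.Finite.exists_maximal (s := {N : Subgroup A | IsLayer Z N})
    (Set.toFinite _) ⟨Z, hbase⟩
  have hL : IsLayer Z N := hN.1
  refine ⟨N, hL, ?_⟩
  let C := Subgroup.centralizer (Z : Set A)
  let K := C ⊓ Subgroup.centralizer (N : Set A)
  haveI hNn := hL.normal
  haveI : K.Normal := inferInstanceAs (C ⊓ Subgroup.centralizer (N : Set A)).Normal
  have hZK : Z ≤ K := le_inf (cent_of_comm hZc) fun z hz => Subgroup.mem_centralizer_iff.mpr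
    fun n hn => cent_comm (hL.leC hn) hz
  suffices hKZ : K ≤ Z by
    intro c hc h
    exact hKZ ⟨hc, Subgroup.mem_centralizer_iff.mpr fun y hy => (h y hy).symm⟩
  by_contra hK
  obtain ⟨M, hMK, hM⟩ := exists_minimal_le_of_wellFoundedLT
    (fun B : Subgroup A => B.Normal ∧ Z ≤ B ∧ ¬ B ≤ Z) K ⟨inferInstance, hZK, hK⟩
  haveI hMn : M.Normal := hM.1.1
  have hZM : Z ≤ M := hM.1.2.1
  have hMZ : ¬ M ≤ Z := hM.1.2.2
  have hmin : ∀ B : Subgroup A, B.Normal → Z ≤ B → B ≤ M → B = Z ∨ B = M := by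
    intro B hB hZB hBM
    by_cases h : B ≤ Z
    · exact Or.inl (le_antisymm h hZB)
    · exact Or.inr (le_antisymm hBM (hM.2 ⟨hB, hZB, h⟩ hBM))
  have hMC : M ≤ C := hMK.trans inf_le_left
  have hMN : ∀ m ∈ M, ∀ n ∈ N, m * n = n * m := fun m hm n hn =>
    (Subgroup.mem_centralizer_iff.mp (hMK hm).2 n hn).symm
  -- `M/Z` is abelian
  have hMcomm : ∀ x ∈ M, ∀ y ∈ M, ⁅x, y⁆ ∈ Z := by
    have hsub : ⁅M, M⁆ ⊔ Z ≤ M := sup_le (Subgroup.commutator_le.mpr fun x hx y hy => by
      rw [commutatorElement_def]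
      exact mul_mem (mul_mem (mul_mem hx hy) (inv_mem hx)) (inv_mem hy)) hZM
    rcases hmin _ inferInstance le_sup_right hsub with h | h
    · exact fun x hx y hy => h ▸ Subgroup.mem_sup_left (Subgroup.commutator_mem_commutator hx hy)
    · exfalso
      let π := QuotientGroup.mk' Z
      have hne : M.map π ≠ ⊥ := by
        rw [Ne, Subgroup.map_eq_bot_iff, QuotientGroup.ker_mk']
        exact hMZ
      refine (Group.IsSolvable.commutator_lt_of_ne_bot hne).ne ?_
      conv_rhs => rw [← h]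
      rw [Subgroup.map_sup, Subgroup.map_commutator, QuotientGroup.map_mk'_self, sup_bot_eq]
  have hMnd : ∀ x ∈ M, (∀ y ∈ M, x * y = y * x) → x ∈ Z := by
    intro x hx h
    have := hmax (M ⊓ Subgroup.centralizer (M : Set A)) inferInstance
      (le_inf hZM fun z hz => Subgroup.mem_centralizer_iff.mpr fun m hm => cent_comm (hMC hm) hz)
      (fun a ha b hb => (Subgroup.mem_centralizer_iff.mp ha.2 b hb.1).symm)
    rw [← this]
    exact ⟨hx, Subgroup.mem_centralizer_iff.mpr fun y hy => (h y hy).symm⟩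
  have hN' : IsLayer Z (N ⊔ M) := by
    refine ⟨inferInstance, hL.le.trans le_sup_left, sup_le hL.leC hMC, ?_, ?_, ?_⟩
    · intro x hx y hy
      obtain ⟨n, hn, m, hm, rfl⟩ := Subgroup.mem_sup_of_normal_left.mp hx
      obtain ⟨n', hn', m', hm', rfl⟩ := Subgroup.mem_sup_of_normal_left.mp hy
      have e1 : ⁅n, n' * m'⁆ ∈ Z := by
        rw [comm_mul_right (hL.leC hn') (by
          rw [commutatorElement_eq_one_iff_mul_comm.mpr (hMN m' hm' n hn).symm]; exact one_mem Z)]
        exact mul_mem (hL.comm n hn n' hn') (by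
          rw [commutatorElement_eq_one_iff_mul_comm.mpr (hMN m' hm' n hn).symm]; exact one_mem Z)
      have e2 : ⁅m, n' * m'⁆ ∈ Z := by
        rw [comm_mul_right (hL.leC hn') (hMcomm m hm m' hm')]
        exact mul_mem (by rw [commutatorElement_eq_one_iff_mul_comm.mpr (hMN m hm n' hn')]
                          exact one_mem Z) (hMcomm m hm m' hm')
      rw [comm_mul_left (hL.leC hn) e2]
      exact mul_mem e2 e1
    · intro x hx h
      obtain ⟨n, hn, m, hm, rfl⟩ := Subgroup.mem_sup_of_normal_left.mp hx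
      have hnZ : n ∈ Z := hL.nondeg n hn fun y hy => by
        have h2 := h y (Subgroup.mem_sup_left hy)
        rw [mul_assoc, hMN m hm y hy, ← mul_assoc, ← mul_assoc] at h2
        exact mul_right_cancel h2
      refine mul_mem hnZ (hMnd m hm fun y hy => ?_)
      have h2 := h y (Subgroup.mem_sup_right hy)
      rw [mul_assoc, ← mul_assoc y, cent_comm (hMC hy) hnZ, mul_assoc] at h2
      exact mul_left_cancel h2
    · intro U hU hZU hUN
      haveI := hU
      obtain ⟨W, hW⟩ := Set.Finite.exists_maximal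
        (s := {W : Subgroup A | W.Normal ∧ Z ≤ W ∧ W ≤ N ⊔ M ∧ U ⊓ W = Z}) (Set.toFinite _)
        ⟨Z, hZn, le_rfl, hL.le.trans le_sup_left, inf_eq_right.mpr hZU⟩
      obtain ⟨hWn, hZW, hWN, hUW⟩ := hW.1
      haveI := hWn
      refine ⟨W, hWn, hZW, hWN, hUW, le_antisymm (sup_le hUN hWN) ?_⟩
      have key : ∀ T : Subgroup A, T.Normal → Z ≤ T → T ≤ N ⊔ M → T ⊓ (U ⊔ W) = Z → T ≤ Z := by
        intro T hT hZT hTN hTX
        haveI := hT
        have hin : U ⊓ (W ⊔ T) = Z := by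
          refine le_antisymm ?_ (le_inf hZU (hZW.trans le_sup_left))
          rintro u ⟨hu, hu'⟩
          obtain ⟨w, hw, t, ht, rfl⟩ := Subgroup.mem_sup_of_normal_left.mp hu'
          have htX : t ∈ T ⊓ (U ⊔ W) := ⟨ht, by
            have : t = w⁻¹ * (w * t) := by group
            rw [this]
            exact mul_mem (Subgroup.mem_sup_right (inv_mem hw)) (Subgroup.mem_sup_left hu)⟩
          rw [hTX] at htX
          exact hUW ▸ Subgroup.mem_inf.mpr ⟨hu, mul_mem hw (hZW htX)⟩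
        have hmem : (W ⊔ T).Normal ∧ Z ≤ W ⊔ T ∧ W ⊔ T ≤ N ⊔ M ∧ U ⊓ (W ⊔ T) = Z :=
          ⟨inferInstance, hZW.trans le_sup_left, sup_le hWN hTN, hin⟩
        have hTW : T ≤ W := le_sup_right.trans (hW.2 hmem le_sup_left)
        exact (le_inf le_rfl (hTW.trans le_sup_right)).trans hTX.le
      haveI : (U ⊔ W).Normal := inferInstance
      refine sup_le ?_ ?_
      · obtain ⟨W₀, hW₀n, hZW₀, hW₀N, hi, hs⟩ := hL.semisimple ((U ⊔ W) ⊓ N) inferInstance
          (le_inf (hZU.trans le_sup_left) hL.le) inf_le_right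
        have hW0X : W₀ ⊓ (U ⊔ W) = Z := by
          refine le_antisymm ?_ (le_inf hZW₀ (hZU.trans le_sup_left))
          rintro t ⟨ht, ht'⟩
          exact hi ▸ Subgroup.mem_inf.mpr ⟨⟨ht', hW₀N ht⟩, ht⟩
        rw [← hs]
        exact sup_le inf_le_left ((key W₀ hW₀n hZW₀ (hW₀N.trans le_sup_left) hW0X).trans
          (hZU.trans le_sup_left))
      · rcases hmin (M ⊓ (U ⊔ W)) inferInstance (le_inf hZM (hZU.trans le_sup_left)) inf_le_left
          with h | h
        · exact absurd (key M hMn hZM le_sup_right h) hMZ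
        · exact h ▸ inf_le_right
  have hMle : M ≤ N := le_sup_right.trans (hN.2 hN' le_sup_left)
  exact hMZ fun m hm => hMnd m hm fun y hy => (hMN m hm y (hMle hy))

/-- The commutator as a homomorphism. -/
def commHom (U : Subgroup A) (hUC : U ≤ Subgroup.centralizer (Z : Set A))
    (x : A) (hx : ∀ y ∈ U, ⁅x, y⁆ ∈ Z) : ↥U →* ↥Z where
  toFun y := ⟨⁅x, (y : A)⁆, hx y y.2⟩
  map_one' := Subtype.ext (by simp)
  map_mul' y y' := Subtype.ext (comm_mul_right (hUC y.2) (hx y' y'.2))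

/-- Elements of prime order of a cyclic group are powers of each other. -/
theorem cyclic_prime_pow {G : Type*} [Group G] [Finite G] [IsCyclic G] {p : ℕ} [Fact p.Prime]
    {a b : G} (ha : a ^ p = 1) (ha1 : a ≠ 1) (hb : b ^ p = 1) : b ∈ Subgroup.zpowers a := by
  classical
  haveI := Fintype.ofFinite G
  let S : Finset G := Finset.univ.filter fun g => g ∈ Subgroup.zpowers a
  let T : Finset G := Finset.univ.filter fun g => g ^ p = 1
  have hST : S ⊆ T := fun g hg => by
    simp only [S, T, Finset.mem_filter, Finset.mem_univ, true_and] at hg ⊢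
    obtain ⟨i, rfl⟩ := Subgroup.mem_zpowers_iff.mp hg
    rw [← zpow_natCast, ← zpow_mul, mul_comm, zpow_mul, zpow_natCast, ha, one_zpow]
  have hS : S.card = p := by
    rw [← Fintype.card_subtype, ← Nat.card_eq_fintype_card]
    exact (Nat.card_zpowers a).trans (orderOf_eq_prime ha ha1)
  have hT : T.card ≤ p := IsCyclic.card_pow_eq_one_le (Fact.out : p.Prime).pos
  have hbT : b ∈ T := by simp [T, hb]
  rw [← Finset.eq_of_subset_of_card_le hST (hS ▸ hT)] at hbT
  simpa [S] using hbT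

theorem exists_sq_aux [Finite A] [IsCyclic Z] (n : ℕ) :
    ∀ U : Subgroup A, Nat.card U = n → Z ≤ U → U ≤ Subgroup.centralizer (Z : Set A) →
      (∀ x ∈ U, ∀ y ∈ U, ⁅x, y⁆ ∈ Z) →
      ∃ e, Nat.card U = e ^ 2 * Nat.card ↥(U ⊓ Subgroup.centralizer (U : Set A)) ∧
        ∀ r : ℕ, r.Prime → r ∣ e → r ∣ Nat.card Z := by
  induction n using Nat.strong_induction_on with
  | _ n ih =>
  intro U hn hZU hUC hcomm
  let R := U ⊓ Subgroup.centralizer (U : Set A)
  by_cases hab : U ≤ R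
  · refine ⟨1, ?_, fun r hr hd => absurd (Nat.dvd_one.mp hd) hr.ne_one⟩
    rw [one_pow, one_mul, le_antisymm (inf_le_left : R ≤ U) hab]
  have hex : ∃ x ∈ U, x ∉ R ∧ ∃ p : ℕ, p.Prime ∧ x ^ p ∈ R := by
    obtain ⟨y, hy, hyR⟩ := SetLike.not_le_iff_exists.mp hab
    have hex : ∃ j, 0 < j ∧ y ^ j ∈ R :=
      ⟨orderOf y, orderOf_pos y, by rw [pow_orderOf_eq_one]; exact one_mem R⟩
    classical
    let j := Nat.find hex
    obtain ⟨hj0, hj⟩ := Nat.find_spec hex
    have hj1 : j ≠ 1 := fun h => hyR (by rw [show Nat.find hex = 1 from h, pow_one] at hj; exact hj)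
    obtain ⟨p, hp, hpj⟩ := Nat.exists_prime_and_dvd hj1
    refine ⟨y ^ (j / p), pow_mem hy _, fun h => ?_, p, hp, ?_⟩
    · exact Nat.find_min hex (Nat.div_lt_self hj0 hp.one_lt)
        ⟨Nat.div_pos (Nat.le_of_dvd hj0 hpj) hp.pos, h⟩
    · rw [← pow_mul, Nat.div_mul_cancel hpj]
      exact hj
  obtain ⟨x, hx, hxR, p, hp, hxp⟩ := hex
  haveI := Fact.mk hp
  let φ := commHom U hUC x (fun y hy => hcomm x hx y hy)
  let K : Subgroup A := φ.ker.map U.subtype
  have hK : ∀ y, y ∈ K ↔ y ∈ U ∧ ⁅x, y⁆ = 1 := by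
    intro y
    simp only [K, Subgroup.mem_map, MonoidHom.mem_ker, Subgroup.coe_subtype]
    constructor
    · rintro ⟨z, hz, rfl⟩
      exact ⟨z.2, congrArg Subtype.val hz⟩
    · rintro ⟨hy, h⟩
      exact ⟨⟨y, hy⟩, Subtype.ext h, rfl⟩
  have hKU : K ≤ U := fun y hy => ((hK y).mp hy).1
  have hφp : ∀ y : ↥U, φ y ^ p = 1 := by
    intro y
    apply Subtype.ext
    show ⁅x, (y : A)⁆ ^ p = 1
    have key : ∀ i : ℕ, ⁅x, (y : A)⁆ ^ i = ⁅x ^ i, (y : A)⁆ := by
      intro i
      induction i with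
      | zero => simp
      | succ i ih' =>
        rw [pow_succ, ih', pow_succ' x i, comm_mul_left (hUC hx) (hcomm _ (pow_mem hx i) _ y.2)]
    rw [key, commutatorElement_eq_one_iff_mul_comm]
    exact (Subgroup.mem_centralizer_iff.mp hxp.2 y y.2).symm
  obtain ⟨u₀, hu₀⟩ : ∃ u : ↥U, φ u ≠ 1 := by
    by_contra h
    push Not at h
    refine hxR ⟨hx, Subgroup.mem_centralizer_iff.mpr fun y hy => ?_⟩
    exact (commutatorElement_eq_one_iff_mul_comm.mp (congrArg Subtype.val (h ⟨y, hy⟩))).symm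
  have hrange : φ.range = Subgroup.zpowers (φ u₀) := by
    refine le_antisymm ?_ (Subgroup.zpowers_le.mpr ⟨u₀, rfl⟩)
    rintro _ ⟨y, rfl⟩
    exact cyclic_prime_pow (hφp u₀) hu₀ (hφp y)
  have hrcard : Nat.card φ.range = p := by
    rw [hrange, Nat.card_zpowers]
    exact orderOf_eq_prime (hφp u₀) hu₀
  have hcardU : Nat.card U = p * Nat.card K := by
    rw [Subgroup.card_map_of_injective U.subtype_injective, ← φ.ker.card_mul_index,
      Subgroup.index_ker, hrcard, mul_comm]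
  have hZK : Z ≤ K := fun z hz => (hK z).mpr
    ⟨hZU hz, commutatorElement_eq_one_iff_mul_comm.mpr (cent_comm (hUC hx) hz)⟩
  have hlt : Nat.card K < n := by
    rw [← hn, hcardU]
    exact lt_mul_of_one_lt_left Nat.card_pos hp.one_lt
  obtain ⟨e, he, hr⟩ := ih _ hlt K rfl hZK (hKU.trans hUC)
    (fun a ha b hb => hcomm a (hKU ha) b (hKU hb))
  have hradcard : Nat.card ↥(K ⊓ Subgroup.centralizer (K : Set A)) = p * Nat.card R := by
    let T := K ⊓ Subgroup.centralizer (K : Set A)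
    let ω : ↥T →* ↥Z :=
      { toFun := fun a => ⟨⁅(a : A), (u₀ : A)⁆, hcomm a (hKU a.2.1) u₀ u₀.2⟩
        map_one' := Subtype.ext (by simp)
        map_mul' := fun a b => Subtype.ext (by
          show ⁅(a : A) * b, (u₀ : A)⁆ = ⁅(a : A), (u₀ : A)⁆ * ⁅(b : A), (u₀ : A)⁆
          rw [comm_mul_left (hUC (hKU a.2.1)) (hcomm b (hKU b.2.1) u₀ u₀.2)]
          exact cent_comm (hUC (hZU (hcomm b (hKU b.2.1) u₀ u₀.2)))
            (hcomm a (hKU a.2.1) u₀ u₀.2)) }
    have hker : ω.ker = R.subgroupOf T := by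
      ext ⟨y, hy⟩
      simp only [MonoidHom.mem_ker, Subgroup.mem_subgroupOf]
      constructor
      · intro h
        have h0 : ⁅y, (u₀ : A)⁆ = 1 := congrArg Subtype.val h
        let ψ := commHom U hUC y (fun t ht => hcomm y (hKU hy.1) t ht)
        refine Subgroup.mem_inf.mpr ⟨hKU hy.1, Subgroup.mem_centralizer_iff.mpr fun t ht => ?_⟩
        obtain ⟨j, hj⟩ := Subgroup.mem_zpowers_iff.mp
          (show φ ⟨t, ht⟩ ∈ Subgroup.zpowers (φ u₀) from hrange ▸ ⟨⟨t, ht⟩, rfl⟩)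
        let d : ↥U := ⟨t, ht⟩ * (u₀ ^ j)⁻¹
        have hd : (d : A) ∈ K := (hK _).mpr ⟨d.2, by
          have : φ d = 1 := by simp only [d]; rw [map_mul, map_inv, map_zpow, hj, mul_inv_cancel]
          exact congrArg Subtype.val this⟩
        have h1 : ψ d = 1 := Subtype.ext (commutatorElement_eq_one_iff_mul_comm.mpr
          (Subgroup.mem_centralizer_iff.mp hy.2 d hd).symm)
        have h2 : ψ u₀ = 1 := Subtype.ext h0
        simp only [d] at h1
        rw [map_mul, map_inv, map_zpow, h2, one_zpow, inv_one, mul_one] at h1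
        exact (commutatorElement_eq_one_iff_mul_comm.mp (congrArg Subtype.val h1)).symm
      · intro h
        exact Subtype.ext (commutatorElement_eq_one_iff_mul_comm.mpr
          (Subgroup.mem_centralizer_iff.mp (Subgroup.mem_inf.mp h).2 u₀ u₀.2).symm)
    have hxT : x ∈ T := Subgroup.mem_inf.mpr ⟨(hK x).mpr ⟨hx, commutatorElement_self x⟩,
      Subgroup.mem_centralizer_iff.mpr fun k hk =>
        (commutatorElement_eq_one_iff_mul_comm.mp ((hK k).mp hk).2).symm⟩
    have hrange' : ω.range = Subgroup.zpowers (φ u₀) := by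
      refine le_antisymm ?_ (Subgroup.zpowers_le.mpr ⟨⟨x, hxT⟩, rfl⟩)
      rintro _ ⟨⟨y, hy⟩, rfl⟩
      refine cyclic_prime_pow (hφp u₀) hu₀ ?_
      let ψ := commHom U hUC y (fun t ht => hcomm y (hKU hy.1) t ht)
      show ψ u₀ ^ p = 1
      rw [← map_pow]
      refine Subtype.ext (commutatorElement_eq_one_iff_mul_comm.mpr
        (Subgroup.mem_centralizer_iff.mp hy.2 _ ?_).symm)
      refine (hK _).mpr ⟨(u₀ ^ p).2, ?_⟩
      exact congrArg Subtype.val ((map_pow φ u₀ p).trans (hφp u₀))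
    have hRT : R ≤ T := fun t ht => Subgroup.mem_inf.mpr ⟨(hK t).mpr ⟨(Subgroup.mem_inf.mp ht).1,
        commutatorElement_eq_one_iff_mul_comm.mpr
          (Subgroup.mem_centralizer_iff.mp (Subgroup.mem_inf.mp ht).2 x hx)⟩,
      Subgroup.mem_centralizer_iff.mpr fun k hk =>
        Subgroup.mem_centralizer_iff.mp (Subgroup.mem_inf.mp ht).2 k (hKU hk)⟩
    show Nat.card ↥T = p * Nat.card R
    rw [← ω.ker.card_mul_index, Subgroup.index_ker, hrange', ← hrange, hrcard, hker,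
      Nat.card_congr (Subgroup.subgroupOfEquivOfLe hRT).toEquiv, mul_comm]
  refine ⟨p * e, ?_, fun r' hr' hd => ?_⟩
  · rw [hcardU, he, hradcard]
    ring
  · rcases (Nat.Prime.dvd_mul hr').mp hd with h | h
    · rw [(Nat.prime_dvd_prime_iff_eq hr' hp).mp h, ← hrcard]
      exact Subgroup.card_subgroup_dvd_card _
    · exact hr r' hr' h

/-- The order of a layer. -/
theorem exists_sq [Finite A] [IsCyclic Z] {N : Subgroup A} (hL : IsLayer Z N) :
    ∃ e, Nat.card N = e ^ 2 * Nat.card Z ∧ ∀ r : ℕ, r.Prime → r ∣ e → r ∣ Nat.card Z := by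
  obtain ⟨e, he, hr⟩ := exists_sq_aux (Z := Z) (Nat.card N) N rfl hL.le hL.leC hL.comm
  refine ⟨e, ?_, hr⟩
  have : N ⊓ Subgroup.centralizer (N : Set A) = Z := le_antisymm
    (fun x hx => hL.nondeg x hx.1 fun y hy => (Subgroup.mem_centralizer_iff.mp hx.2 y hy).symm)
    (le_inf hL.le fun z hz => Subgroup.mem_centralizer_iff.mpr fun n hn => cent_comm (hL.leC hn) hz)
  rw [he, this]

end CfsgLib.OddBase
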