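import Mathlib
import Cfsg.Agent.Lib.OddBase.Layer

/-!
# The group induced on the symplectic layer

The bound for `|C : N|`, where `C` is the centralizer of the cyclic maximal abelian normal
subgroup `Z` and `N` is the layer over it.
-/

set_option autoImplicit false
set_option maxHeartbeats 800000
set_option linter.style.haveILetI false
set_option linter.unusedSectionVars false

namespace CfsgLib.OddBase

open scoped commutatorElement

universe u

/-- There are no more homomorphisms into a cyclic group than elements. -/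
theorem card_hom_cyclic_le {Q Z : Type u} [CommGroup Q] [Finite Q] [CommGroup Z] [Finite Z]
    [IsCyclic Z] : Finite (Q →* Z) ∧ Nat.card (Q →* Z) ≤ Nat.card Q := by
  haveI : NeZero (Monoid.exponent Q) := ⟨Monoid.exponent_ne_zero_of_finite⟩
  haveI : NeZero (Monoid.exponent Z) := ⟨Monoid.exponent_ne_zero_of_finite⟩
  obtain ⟨g, hg⟩ := IsCyclic.exists_generator (α := Z)
  have hne : Nat.card Z ≠ 0 := Nat.card_pos.ne'
  haveI : NeZero (Nat.card Z) := ⟨hne⟩
  have hr : IsPrimitiveRoot (Complex.exp (2 * Real.pi * Complex.I / (Nat.card Z : ℕ))) (Nat.card Z) :=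
    Complex.isPrimitiveRoot_exp _ hne
  let ζ : ℂˣ := (hr.isUnit hne).unit
  have hζ : IsPrimitiveRoot ζ (Nat.card Z) := hr.isUnit_unit hne
  have hgo : orderOf g = Nat.card Z := orderOf_eq_card_of_forall_mem_zpowers hg
  let ι : Z →* ℂˣ := monoidHomOfForallMemZpowers hg
    (show orderOf ζ ∣ orderOf g by rw [hgo, ← hζ.eq_orderOf])
  have hι : Function.Injective ι := by
    rw [injective_iff_map_eq_one]
    intro z hz
    obtain ⟨i, rfl⟩ := Subgroup.mem_zpowers_iff.mp (hg z)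
    rw [map_zpow, monoidHomOfForallMemZpowers_apply_gen, hζ.zpow_eq_one_iff_dvd] at hz
    rw [← orderOf_dvd_iff_zpow_eq_one, hgo]
    exact hz
  let F : (Q →* Z) → (Q →* ℂˣ) := fun f => ι.comp f
  have hF : Function.Injective F := fun f f' e => MonoidHom.ext fun x => hι (DFunLike.congr_fun e x)
  have h2 := CommGroup.card_monoidHom_of_hasEnoughRootsOfUnity Q ℂ
  haveI : Finite (Q →* ℂˣ) := Nat.finite_of_card_ne_zero (by rw [h2]; exact Nat.card_pos.ne')
  exact ⟨Finite.of_injective _ hF, (Nat.card_le_card_of_injective _ hF).trans h2.le⟩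

/-- A completely reducible group of prime power order is elementary abelian. -/
theorem nsmul_eq_zero_of_cr {G : Type u} [Group G] {V : Type u} [AddCommGroup V] [Finite V]
    {ρ : G →* AddMonoid.End V} (hcr : CR ρ) {p k : ℕ} [hp : Fact p.Prime]
    (hV : Nat.card V = p ^ k) (v : V) : p • v = 0 := by
  let U : AddSubgroup V :=
    { carrier := {x | p • x = 0}
      zero_mem' := smul_zero p
      add_mem' := fun {a b} ha hb => by
        simp only [Set.mem_ofPred_eq] at ha hb ⊢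
        rw [smul_add, ha, hb, add_zero]
      neg_mem' := fun {a} ha => by
        simp only [Set.mem_ofPred_eq] at ha ⊢
        rw [smul_neg, ha, neg_zero] }
  obtain ⟨W, -, hUW, htop⟩ := hcr U fun g x hx => by
    show p • ρ g x = 0
    rw [← map_nsmul, show p • x = 0 from hx, map_zero]
  have hW : W = ⊥ := by
    by_contra hW
    obtain ⟨j, -, hj⟩ := (Nat.dvd_prime_pow hp.out).mp (hV ▸ W.card_addSubgroup_dvd_card)
    have hj0 : j ≠ 0 := fun h => hW (AddSubgroup.eq_bot_of_card_eq W (by rw [hj, h, pow_zero]))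
    obtain ⟨w, hw⟩ := exists_prime_addOrderOf_dvd_card' (G := W) p (hj ▸ dvd_pow_self p hj0)
    have hwU : (w : V) ∈ U := by
      show p • (w : V) = 0
      rw [← AddSubgroupClass.coe_nsmul, ← hw, addOrderOf_nsmul_eq_zero, ZeroMemClass.coe_zero]
    have : (w : V) ∈ U ⊓ W := ⟨hwU, w.2⟩
    rw [hUW, AddSubgroup.mem_bot] at this
    rw [show w = 0 from Subtype.ext this, addOrderOf_zero] at hw
    exact hp.out.ne_one hw.symm
  rw [hW, sup_bot_eq] at htop
  exact (show v ∈ U by rw [htop]; trivial)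

variable {A : Type u} [Group A] {Z N : Subgroup A}

/-- The layer module: a structure carrying `N/Z` written additively with its `A`-action. -/
theorem exists_module [Finite A] [hZn : Z.Normal] (hL : IsLayer Z N) :
    ∃ (V : Type u) (_ : AddCommGroup V) (_ : Finite V) (ρ : A →* AddMonoid.End V) (π : ↥N → V),
      Function.Surjective π ∧ (∀ x y, π (x * y) = π x + π y) ∧ (∀ x, π x = 0 ↔ (x : A) ∈ Z) ∧
      (∀ (a : A) (x : ↥N), ρ a (π x) = π ⟨a * x * a⁻¹, hL.normal.conj_mem x x.2 a⟩) ∧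
      Nat.card V * Nat.card Z = Nat.card N := by
  haveI := hL.normal
  haveI : (Z.subgroupOf N).Normal := inferInstance
  let Q := ↥N ⧸ Z.subgroupOf N
  letI : CommGroup Q :=
    { (inferInstance : Group Q) with
      mul_comm := fun a b => by
        induction a using QuotientGroup.induction_on with
        | _ x =>
          induction b using QuotientGroup.induction_on with
          | _ y =>
            rw [← QuotientGroup.mk_mul, ← QuotientGroup.mk_mul, QuotientGroup.eq,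
              Subgroup.mem_subgroupOf]
            have h := hL.comm (y : A)⁻¹ (inv_mem y.2) (x : A)⁻¹ (inv_mem x.2)
            simpa [commutatorElement_def, mul_assoc] using h }
  let φ : A → (Q →* Q) := fun a => QuotientGroup.map _ _ (MulAut.conjNormal (H := N) a).toMonoidHom
    (fun x hx => by
      simp only [Subgroup.mem_comap, Subgroup.mem_subgroupOf, MulEquiv.coe_toMonoidHom,
        MulAut.conjNormal_apply] at hx ⊢
      exact hZn.conj_mem _ hx a)
  let ρ : A →* AddMonoid.End (Additive Q) :=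
    { toFun := fun a => (MonoidHom.toAdditive (φ a) : AddMonoid.End (Additive Q))
      map_one' := end_ext (V := Additive Q) fun x => by
        obtain ⟨y, rfl⟩ := QuotientGroup.mk_surjective (Additive.toMul x)
        show Additive.ofMul (QuotientGroup.mk (MulAut.conjNormal (H := N) (1 : A) y) : Q) = _
        simp
        rfl
      map_mul' := fun a b => end_ext (V := Additive Q) fun x => by
        obtain ⟨y, rfl⟩ := QuotientGroup.mk_surjective (Additive.toMul x)
        show Additive.ofMul (QuotientGroup.mk (MulAut.conjNormal (H := N) (a * b) y) : Q) =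
          Additive.ofMul (QuotientGroup.mk
            (MulAut.conjNormal (H := N) a (MulAut.conjNormal (H := N) b y)) : Q)
        rw [map_mul]
        rfl }
  refine ⟨Additive Q, inferInstance, inferInstanceAs (Finite Q), ρ,
    fun x => Additive.ofMul (QuotientGroup.mk x : Q), fun v => ?_, fun x y => ?_, fun x => ?_,
    fun a x => ?_, ?_⟩
  · obtain ⟨y, hy⟩ := QuotientGroup.mk_surjective (Additive.toMul v)
    exact ⟨y, congrArg Additive.ofMul hy⟩
  · rfl
  · show (QuotientGroup.mk x : Q) = 1 ↔ _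
    rw [QuotientGroup.eq_one_iff, Subgroup.mem_subgroupOf]
  · show Additive.ofMul (QuotientGroup.mk (MulAut.conjNormal (H := N) a x) : Q) = _
    congr 2
  · show Nat.card Q * Nat.card Z = Nat.card N
    rw [Subgroup.card_eq_card_quotient_mul_card_subgroup (Z.subgroupOf N),
      Nat.card_congr (Subgroup.subgroupOfEquivOfLe hL.le).toEquiv]

variable {V : Type u} [AddCommGroup V] [Finite V] {ρ : A →* AddMonoid.End V} {π : ↥N → V}

theorem module_cr [Finite A] [Z.Normal] (hL : IsLayer Z N) (hπs : Function.Surjective π)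
    (hπm : ∀ x y, π (x * y) = π x + π y) (hπ0 : ∀ x, π x = 0 ↔ (x : A) ∈ Z)
    (hπa : ∀ (a : A) (x : ↥N), ρ a (π x) = π ⟨a * x * a⁻¹, hL.normal.conj_mem x x.2 a⟩) :
    CR ρ := by
  intro U hU
  haveI := hL.normal
  let f : ↥N →* Multiplicative V := MonoidHom.mk' (fun x => Multiplicative.ofAdd (π x))
    (fun x y => congrArg Multiplicative.ofAdd (hπm x y))
  let U' : Subgroup A := ((AddSubgroup.toSubgroup U).comap f).map N.subtype
  have hU' : ∀ x : ↥N, (x : A) ∈ U' ↔ π x ∈ U := by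
    intro x
    simp only [U', Subgroup.mem_map, Subgroup.coe_subtype]
    exact ⟨fun ⟨y, hy, e⟩ => Subtype.ext e ▸ hy, fun h => ⟨x, h, rfl⟩⟩
  have hU'N : U' ≤ N := by
    rintro _ ⟨y, -, rfl⟩
    exact y.2
  have hU'n : U'.Normal := ⟨fun x hx a => by
    have h := hU a _ ((hU' ⟨x, hU'N hx⟩).mp hx)
    rw [hπa] at h
    exact (hU' _).mpr h⟩
  have hZU : Z ≤ U' := fun z hz => (hU' ⟨z, hL.le hz⟩).mpr (by
    rw [(hπ0 ⟨z, hL.le hz⟩).mpr hz]; exact U.zero_mem)
  obtain ⟨W', hW'n, hZW, hWN, hi, hs⟩ := hL.semisimple U' hU'n hZU hU'N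
  let W : AddSubgroup V :=
    { carrier := π '' {x : ↥N | (x : A) ∈ W'}
      zero_mem' := ⟨1, W'.one_mem, (hπ0 1).mpr Z.one_mem⟩
      add_mem' := by
        rintro _ _ ⟨x, hx, rfl⟩ ⟨y, hy, rfl⟩
        exact ⟨x * y, W'.mul_mem hx hy, hπm x y⟩
      neg_mem' := by
        rintro _ ⟨x, hx, rfl⟩
        refine ⟨x⁻¹, W'.inv_mem hx, eq_neg_of_add_eq_zero_left ?_⟩
        rw [← hπm, inv_mul_cancel]
        exact (hπ0 1).mpr Z.one_mem }
  refine ⟨W, ?_, ?_, ?_⟩
  · rintro a _ ⟨x, hx, rfl⟩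
    exact ⟨⟨a * x * a⁻¹, hL.normal.conj_mem x x.2 a⟩, hW'n.conj_mem _ hx a, (hπa a x).symm⟩
  · rw [AddSubgroup.eq_bot_iff_forall]
    rintro _ ⟨hxU, x, hx, rfl⟩
    exact (hπ0 x).mpr (hi ▸ Subgroup.mem_inf.mpr ⟨(hU' x).mpr hxU, hx⟩)
  · rw [AddSubgroup.eq_top_iff']
    intro v
    obtain ⟨x, rfl⟩ := hπs v
    haveI := hU'n
    obtain ⟨a, ha, b, hb, hab⟩ := Subgroup.mem_sup_of_normal_left.mp
      (show (x : A) ∈ U' ⊔ W' from hs.symm ▸ x.2)
    rw [show x = ⟨a, hU'N ha⟩ * ⟨b, hWN hb⟩ from Subtype.ext hab.symm, hπm]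
    exact add_mem (AddSubgroup.mem_sup_left ((hU' ⟨a, hU'N ha⟩).mp ha))
      (AddSubgroup.mem_sup_right ⟨⟨b, hWN hb⟩, hb, rfl⟩)

/-- The centralizer of the layer module in `C` is `N`. -/
theorem mem_layer_of_trivial [Finite A] [Z.Normal] [IsCyclic Z] (hL : IsLayer Z N)
    (hcent : ∀ c ∈ Subgroup.centralizer (Z : Set A), (∀ y ∈ N, c * y = y * c) → c ∈ Z)
    (hπs : Function.Surjective π) (hπm : ∀ x y, π (x * y) = π x + π y)
    (hπ0 : ∀ x, π x = 0 ↔ (x : A) ∈ Z)
    (hπa : ∀ (a : A) (x : ↥N), ρ a (π x) = π ⟨a * x * a⁻¹, hL.normal.conj_mem x x.2 a⟩)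
    {c : A} (hc : c ∈ Subgroup.centralizer (Z : Set A)) (h1 : ρ c = 1) : c ∈ N := by
  haveI := hL.normal
  letI : CommGroup ↥Z := IsCyclic.commGroup
  have hc' : ∀ y ∈ N, ⁅c, y⁆ ∈ Z := by
    intro y hy
    have h := hπa c ⟨y, hy⟩
    rw [h1] at h
    have h2 : π (⟨c * y * c⁻¹, hL.normal.conj_mem y hy c⟩ * (⟨y, hy⟩ : ↥N)⁻¹) = 0 := by
      have h3 : π (⟨c * y * c⁻¹, hL.normal.conj_mem y hy c⟩ * (⟨y, hy⟩ : ↥N)⁻¹) + π ⟨y, hy⟩ =
          0 + π ⟨y, hy⟩ := by
        rw [← hπm, inv_mul_cancel_right, zero_add]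
        exact h.symm
      exact add_right_cancel h3
    exact (hπ0 _).mp h2
  let ψ := commHom N hL.leC c hc'
  -- factor homomorphisms through `V`
  choose σ hσ using hπs
  have hfac : ∀ (χ : ↥N →* ↥Z), (∀ z : ↥N, (z : A) ∈ Z → χ z = 1) →
      ∀ x, χ x = χ (σ (π x)) := by
    intro χ hχ x
    rw [← mul_inv_eq_one, ← map_inv, ← map_mul]
    refine hχ _ ((hπ0 _).mp ?_)
    have h3 : π (x * (σ (π x))⁻¹) + π (σ (π x)) = 0 + π (σ (π x)) := by
      rw [← hπm, inv_mul_cancel_right, zero_add, hσ]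
    exact add_right_cancel h3
  have hkillN : ∀ n : ↥N, ∀ z : ↥N, (z : A) ∈ Z →
      commHom N hL.leC (n : A) (hL.comm n n.2) z = 1 := fun n z hz =>
    Subtype.ext (commutatorElement_eq_one_iff_mul_comm.mpr (cent_comm (hL.leC n.2) hz))
  have hkillc : ∀ z : ↥N, (z : A) ∈ Z → ψ z = 1 := fun z hz =>
    Subtype.ext (commutatorElement_eq_one_iff_mul_comm.mpr (cent_comm hc hz))
  let lift : (χ : ↥N →* ↥Z) → (∀ z : ↥N, (z : A) ∈ Z → χ z = 1) → (Multiplicative V →* ↥Z) :=
    fun χ hχ => MonoidHom.mk' (fun v => χ (σ (Multiplicative.toAdd v))) fun v w => by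
      rw [← map_mul χ, hfac χ hχ (σ (Multiplicative.toAdd v) * σ (Multiplicative.toAdd w)),
        hπm, hσ, hσ]
      rfl
  obtain ⟨hfin, hcard⟩ := card_hom_cyclic_le (Q := Multiplicative V) (Z := ↥Z)
  let Φ : Multiplicative V → (Multiplicative V →* ↥Z) := fun v =>
    lift (commHom N hL.leC (σ (Multiplicative.toAdd v) : A) (hL.comm _ (σ _).2)) (hkillN _)
  have hΦ : Function.Injective Φ := by
    intro v w h
    let a := σ (Multiplicative.toAdd v)
    let b := σ (Multiplicative.toAdd w)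
    have hval : ∀ y : ↥N, ⁅(a : A), (y : A)⁆ = ⁅(b : A), (y : A)⁆ := by
      intro y
      have h1 := congrArg Subtype.val (DFunLike.congr_fun h (Multiplicative.ofAdd (π y)))
      have e : ∀ n : ↥N, ⁅(n : A), (y : A)⁆ = ⁅(n : A), (σ (π y) : A)⁆ := fun n =>
        congrArg Subtype.val (hfac _ (hkillN n) y)
      rw [e a, e b]
      exact h1
    have hab : (a : A) * (b : A)⁻¹ ∈ Z := hL.nondeg _ (N.mul_mem a.2 (N.inv_mem b.2)) fun y hy => by
      rw [← commutatorElement_eq_one_iff_mul_comm]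
      have hb' : ⁅((b : A))⁻¹, y⁆ ∈ Z := hL.comm _ (N.inv_mem b.2) y hy
      rw [comm_mul_left (hL.leC a.2) hb', hval ⟨y, hy⟩]
      have := comm_mul_left (Z := Z) (x := (b : A)) (x' := (b : A)⁻¹) (y := y) (hL.leC b.2) hb'
      rw [mul_inv_cancel, commutatorElement_one_left] at this
      exact this.symm
    have h0 : π (a * b⁻¹) = 0 := (hπ0 _).mpr hab
    have h4 : π (a * b⁻¹) + π b = π a := by rw [← hπm, inv_mul_cancel_right]
    rw [h0, zero_add] at h4
    have := h4
    simp only [a, b, hσ] at this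
    exact Multiplicative.toAdd.injective this.symm
  haveI := hfin
  obtain ⟨v, hv⟩ := (hΦ.bijective_of_nat_card_le hcard).2 (lift ψ hkillc)
  let n := σ (Multiplicative.toAdd v)
  have hn : ∀ y : ↥N, ⁅(n : A), (y : A)⁆ = ⁅c, (y : A)⁆ := by
    intro y
    have h1 := congrArg Subtype.val (DFunLike.congr_fun hv (Multiplicative.ofAdd (π y)))
    have e1 : ⁅(n : A), (y : A)⁆ = ⁅(n : A), (σ (π y) : A)⁆ :=
      congrArg Subtype.val (hfac _ (hkillN n) y)
    have e2 : ⁅c, (y : A)⁆ = ⁅c, (σ (π y) : A)⁆ := congrArg Subtype.val (hfac _ hkillc y)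
    rw [e1, e2]
    exact h1
  have hcn : c * (n : A)⁻¹ ∈ Z := hcent _ (mul_mem hc (inv_mem (hL.leC n.2))) fun y hy => by
    rw [← commutatorElement_eq_one_iff_mul_comm]
    have hn' : ⁅((n : A))⁻¹, y⁆ ∈ Z := hL.comm _ (N.inv_mem n.2) y hy
    rw [comm_mul_left hc hn', ← hn ⟨y, hy⟩]
    have := comm_mul_left (Z := Z) (x := (n : A)) (x' := (n : A)⁻¹) (y := y) (hL.leC n.2) hn'
    rw [mul_inv_cancel, commutatorElement_one_left] at this
    exact this.symm
  have := mul_mem (hL.le hcn) n.2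
  rwa [inv_mul_cancel_right] at this

/-- An element of `C` of order prime to `p` fixing a non-zero vector `v` also fixes the orthogonal
of `v` up to multiples: this is used for the smallest layers. -/
theorem exists_orth [Finite A] [IsCyclic Z] (hL : IsLayer Z N) (hπs : Function.Surjective π)
    (hπm : ∀ x y, π (x * y) = π x + π y) (hπ0 : ∀ x, π x = 0 ↔ (x : A) ∈ Z)
    {p : ℕ} [Fact p.Prime] (hexp : ∀ v : V, p • v = 0)
    (hπa : ∀ (a : A) (x : ↥N), ρ a (π x) = π ⟨a * x * a⁻¹, hL.normal.conj_mem x x.2 a⟩)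
    {c : A} (hc : c ∈ Subgroup.centralizer (Z : Set A)) {v : V} (hv : v ≠ 0) (hfix : ρ c v = v) :
    ∃ K : AddSubgroup V, v ∈ K ∧ Nat.card V = p * Nat.card K ∧
      (∀ w, ρ c w - w ∈ K) ∧ ∀ w ∈ K, ρ c w ∈ K := by
  obtain ⟨x, rfl⟩ := hπs v
  let φ := commHom N hL.leC (x : A) (hL.comm x x.2)
  have hkill : ∀ z : ↥N, π z = 0 → φ z = 1 := fun z hz =>
    Subtype.ext (commutatorElement_eq_one_iff_mul_comm.mpr (cent_comm (hL.leC x.2) ((hπ0 z).mp hz)))
  have hwell : ∀ a b : ↥N, π a = π b → φ a = φ b := by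
    intro a b h
    rw [← mul_inv_eq_one, ← map_inv, ← map_mul]
    refine hkill _ ?_
    have h3 : π (a * b⁻¹) + π b = 0 + π b := by rw [← hπm, inv_mul_cancel_right, zero_add, h]
    exact add_right_cancel h3
  choose σ hσ using hπs
  let θ : V →+ Additive ↥Z := AddMonoidHom.mk' (fun w => Additive.ofMul (φ (σ w))) fun a b => by
    rw [← ofMul_mul, ← map_mul, hwell (σ (a + b)) (σ a * σ b) (by rw [hπm, hσ, hσ, hσ])]
  have hmem : ∀ w : ↥N, π w ∈ θ.ker ↔ ⁅(x : A), (w : A)⁆ = 1 := by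
    intro w
    rw [AddMonoidHom.mem_ker]
    show φ (σ (π w)) = 1 ↔ _
    rw [hwell _ w (hσ _)]
    exact Subtype.ext_iff
  have hθ : θ ≠ 0 := by
    intro h
    refine hv ((hπ0 x).mpr (hL.nondeg x x.2 fun y hy => commutatorElement_eq_one_iff_mul_comm.mp ?_))
    exact (hmem ⟨y, hy⟩).mp (by rw [h, AddMonoidHom.mem_ker]; rfl)
  have hrange : Nat.card θ.range = p := by
    obtain ⟨w, hw⟩ : ∃ w, θ w ≠ 0 := by
      by_contra h
      push Not at h
      exact hθ (AddMonoidHom.ext h)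
    have hp' : ∀ w, Additive.toMul (θ w) ^ p = 1 := fun w => by
      rw [← toMul_nsmul, ← map_nsmul, hexp, map_zero, toMul_zero]
    have hw1 : Additive.toMul (θ w) ≠ 1 := fun h => hw (Additive.toMul.injective h)
    have hr : AddSubgroup.toSubgroup' θ.range = Subgroup.zpowers (Additive.toMul (θ w)) := by
      refine le_antisymm ?_ (Subgroup.zpowers_le.mpr ⟨w, rfl⟩)
      rintro z ⟨u, hu⟩
      have : z = Additive.toMul (θ u) := (congrArg Additive.toMul hu).symm
      rw [this]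
      exact cyclic_prime_pow (hp' w) hw1 (hp' u)
    have : Nat.card θ.range = Nat.card ↥(AddSubgroup.toSubgroup' θ.range) := rfl
    rw [this, hr, Nat.card_zpowers, orderOf_eq_prime (hp' w) hw1]
  refine ⟨θ.ker, (hmem x).mpr (commutatorElement_self _), ?_, ?_⟩
  · rw [AddSubgroup.card_eq_card_quotient_mul_card_addSubgroup θ.ker,
      Nat.card_congr (QuotientAddGroup.quotientKerEquivRange θ).toEquiv, hrange]
  have hcx : ∀ y : ↥N, ⁅(x : A), c * y * c⁻¹⁆ = ⁅(x : A), (y : A)⁆ := by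
    intro y
    have h := hπa c x
    rw [hfix] at h
    have hzc : (⟨c * x * c⁻¹, hL.normal.conj_mem x x.2 c⟩ * x⁻¹ : ↥N).1 ∈ Z := by
      refine (hπ0 _).mp ?_
      have h3 : π (⟨c * x * c⁻¹, hL.normal.conj_mem x x.2 c⟩ * x⁻¹) + π x = 0 + π x := by
        rw [← hπm, inv_mul_cancel_right, zero_add]; exact h.symm
      exact add_right_cancel h3
    obtain ⟨z, hz, hxz⟩ : ∃ z ∈ Z, c * x * c⁻¹ = z * x := ⟨_, hzc, by simp [mul_assoc]⟩
    have hy' : c * y * c⁻¹ ∈ N := hL.normal.conj_mem y y.2 c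
    calc ⁅(x : A), c * y * c⁻¹⁆ = ⁅z * (x : A), c * y * c⁻¹⁆ := by
          have hz1 : ⁅z, c * y * c⁻¹⁆ = 1 :=
            commutatorElement_eq_one_iff_mul_comm.mpr (cent_comm (hL.leC hy') hz).symm
          rw [comm_mul_left (Z := Z) (hL.leC (hL.le hz)) (hL.comm x x.2 _ hy'), hz1, mul_one]
      _ = ⁅c * x * c⁻¹, c * y * c⁻¹⁆ := by rw [hxz]
      _ = c * ⁅(x : A), (y : A)⁆ * c⁻¹ := (conjugate_commutatorElement _ _ _).symm
      _ = ⁅(x : A), (y : A)⁆ := by rw [cent_comm hc (hL.comm x x.2 y y.2), mul_inv_cancel_right]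
  refine ⟨fun w => ?_, fun w hw => ?_⟩
  · obtain ⟨y, rfl⟩ : ∃ y, π y = w := ⟨σ w, hσ w⟩
    rw [AddMonoidHom.mem_ker, map_sub, sub_eq_zero, hπa]
    show φ (σ (π _)) = φ (σ (π y))
    rw [hwell _ _ (hσ _), hwell _ _ (hσ _)]
    exact Subtype.ext (hcx y)
  · obtain ⟨y, rfl⟩ : ∃ y, π y = w := ⟨σ w, hσ w⟩
    rw [hπa]
    exact (hmem _).mpr ((hcx y).trans ((hmem y).mp hw))

end CfsgLib.OddBase
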