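import Mathlib
import Cfsg.Agent.Lib.OddBase.Layer
import Cfsg.Agent.Lib.OddBase.Induced

/-!
# The dimension of the homogeneous module

The elements of the layer over `Z` are linearly independent modulo `Z` as linear maps, so the
dimension is at least the square root of their number.
-/

set_option autoImplicit false
set_option maxHeartbeats 800000
set_option linter.style.haveILetI false
set_option linter.unusedSectionVars false

namespace CfsgLib.OddBase

open scoped commutatorElement

universe u

variable {A V : Type u} [Group A] [Finite A] [AddCommGroup V]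

/-- `e² ≤ n²` where `n` is the dimension over the field. -/
theorem dim_bound {K : Type u} [Field K] [Module K V] [Module.Finite K V]
    (ρ : A →* AddMonoid.End V) (hfaith : ∀ g, ρ g = 1 → g = 1) {Z N : Subgroup A} [hZn : Z.Normal]
    (hL : IsLayer Z N) (hlin : ∀ g ∈ N, ∀ (r : K) (x : V), ρ g (r • x) = r • ρ g x)
    (ι : ↥Z →* K) (hι : ∀ (z : ↥Z) (x : V), ρ (z : A) x = ι z • x)
    [Nontrivial V] {e : ℕ} (hcard : Nat.card N = e ^ 2 * Nat.card Z) :
    e ≤ Module.finrank K V := by
  obtain ⟨M, _, _, σ, π, hπs, hπm, hπ0, -, hMN⟩ := exists_module hL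
  have hM : Nat.card M = e ^ 2 := by
    rw [hcard] at hMN
    exact Nat.eq_of_mul_eq_mul_right Nat.card_pos hMN
  haveI := Fintype.ofFinite M
  choose s hs using hπs
  let φ : ↥N → (V →ₗ[K] V) := fun n =>
    { toFun := fun x => ρ (n : A) x
      map_add' := fun x y => map_add (ρ (n : A)) x y
      map_smul' := fun r x => hlin n n.2 r x }
  let χ : M → (↥N →* K) := fun m => ι.comp (commHom N hL.leC (s m : A) (hL.comm _ (s m).2))
  have hιinj : Function.Injective ι := by
    intro a b h
    refine Subtype.ext (eq_of_mul_inv_eq_one (hfaith _ (end_ext fun x => ?_)))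
    show ρ ((a : A) * (b : A)⁻¹) x = x
    rw [rho_mul, hι a, h, ← hι b, rho_apply_inv]
  have hχ : Function.Injective χ := by
    intro m m' h
    have hval : ∀ y : ↥N, ⁅(s m : A), (y : A)⁆ = ⁅(s m' : A), (y : A)⁆ := fun y =>
      (congrArg Subtype.val (hιinj (a₁ := commHom N hL.leC (s m : A) (hL.comm _ (s m).2) y)
        (a₂ := commHom N hL.leC (s m' : A) (hL.comm _ (s m').2) y) (DFunLike.congr_fun h y)) :)
    have hab : (s m : A) * (s m' : A)⁻¹ ∈ Z :=
      hL.nondeg _ (N.mul_mem (s m).2 (N.inv_mem (s m').2)) fun y hy => by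
      rw [← commutatorElement_eq_one_iff_mul_comm]
      have hb' : ⁅((s m' : A))⁻¹, y⁆ ∈ Z := hL.comm _ (N.inv_mem (s m').2) y hy
      rw [comm_mul_left (hL.leC (s m).2) hb', hval ⟨y, hy⟩]
      have := comm_mul_left (Z := Z) (x := (s m' : A)) (x' := (s m' : A)⁻¹) (y := y)
        (hL.leC (s m').2) hb'
      rw [mul_inv_cancel, commutatorElement_one_left] at this
      exact this.symm
    have h0 : π (s m * (s m')⁻¹) = 0 := (hπ0 _).mpr hab
    have h4 : π (s m * (s m')⁻¹) + π (s m') = π (s m) := by rw [← hπm, inv_mul_cancel_right]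
    rw [h0, zero_add, hs, hs] at h4
    exact h4.symm
  have hli : LinearIndependent K fun m => φ (s m) := by
    rw [Fintype.linearIndependent_iff]
    intro c hc m₀
    obtain ⟨x, hx⟩ := exists_ne (0 : V)
    have hne : ρ (s m₀ : A) x ≠ 0 := fun h => hx (rho_injective ρ _ (h.trans (map_zero _).symm))
    obtain ⟨d, hd⟩ : ∃ d : Module.Dual K V, d (ρ (s m₀ : A) x) ≠ 0 := by
      by_contra h
      push Not at h
      exact hne ((Module.forall_dual_apply_eq_zero_iff K _).mp h)
    have hall : ∀ y : ↥N, ∑ m, (c m * d (ρ (s m : A) x)) * (χ m y) = 0 := by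
      intro y
      have h := congrArg (fun f : V →ₗ[K] V => f (ρ (y : A) x)) hc
      simp only [LinearMap.coe_sum, Finset.sum_apply, LinearMap.smul_apply, LinearMap.zero_apply,
        φ, LinearMap.coe_mk, AddHom.coe_mk] at h
      have key : ∀ m, ρ (s m : A) (ρ (y : A) x) = χ m y • ρ (y : A) (ρ (s m : A) x) := by
        intro m
        show _ = ι (commHom N hL.leC (s m : A) (hL.comm _ (s m).2) y) • _
        rw [← hι, ← rho_mul, ← rho_mul, ← rho_mul]
        congr 2
        show (s m : A) * y = ⁅(s m : A), (y : A)⁆ * y * s m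
        simp [commutatorElement_def, mul_assoc]
      have h2 := congrArg (fun v => ρ (y : A)⁻¹ v) h
      simp only [map_sum, map_zero, key] at h2
      simp only [hlin _ (inv_mem y.2), rho_inv_apply] at h2
      have h3 := congrArg d h2
      simp only [map_sum, map_smul, map_zero, smul_eq_mul] at h3
      rw [← h3]
      exact Finset.sum_congr rfl fun m _ => by ring
    have hded : LinearIndependent K fun m : M => (χ m : ↥N → K) :=
      (linearIndependent_monoidHom ↥N K).comp χ hχ
    have := Fintype.linearIndependent_iff.mp hded (fun m => c m * d (ρ (s m : A) x))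
      (funext fun y => by simpa using hall y) m₀
    exact (mul_eq_zero.mp this).resolve_right hd
  have h := hli.fintype_card_le_finrank
  rw [Module.finrank_linearMap, ← Nat.card_eq_fintype_card, hM, sq] at h
  exact Nat.mul_self_le_mul_self_iff.mp h

end CfsgLib.OddBase
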