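import Mathlib
import Cfsg.Agent.Lib.OddBase.Reduce
import Cfsg.Agent.Lib.OddBase.Bound
import Cfsg.Agent.Lib.OddBase.Count
import Cfsg.Agent.Lib.OddBase.Dim
import Cfsg.Agent.Lib.Semilinear.NormalAbelian

/-!
# The homogeneous case

A maximal abelian normal subgroup generates a field, over which the layer is large.
-/

set_option autoImplicit false
set_option maxHeartbeats 800000
set_option linter.style.haveILetI false
set_option linter.unusedSectionVars false

namespace CfsgLib.OddBase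

open scoped commutatorElement

universe u

theorem two_mul_le_two_pow (a : ℕ) : 2 * a ≤ 2 ^ a := by
  rcases a with _ | a
  · simp
  · have := @Nat.lt_two_pow_self a
    rw [pow_succ]
    omega

variable {G V : Type u} [Group G] [AddCommGroup V]

/-- A cyclic normal subgroup which is self-centralizing and semiregular gives a base at once. -/
theorem good_of_self_centralizing [Finite G] (ρ : G →* AddMonoid.End V) [Nontrivial V]
    (Z : Subgroup G) [hZn : Z.Normal] [IsCyclic Z]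
    (hfree : ∀ z ∈ Z, ∀ x, ρ z x = x → x ≠ 0 → z = 1)
    (hC : Subgroup.centralizer (Z : Set G) ≤ Z) : Good ρ := by
  obtain ⟨⟨z₀, hz₀⟩, hgen⟩ := IsCyclic.exists_generator (α := ↥Z)
  obtain ⟨v, hv⟩ := exists_ne (0 : V)
  refine ⟨v, ρ z₀ v, fun g hgv hgw => ?_⟩
  have hgv' : ρ g⁻¹ v = v := by
    conv_lhs => rw [← hgv]
    exact rho_inv_apply ρ g v
  have hconj : ρ (g * z₀ * g⁻¹) v = ρ z₀ v := by rw [rho_mul, rho_mul, hgv', hgw]
  have h1 : z₀⁻¹ * (g * z₀ * g⁻¹) = 1 := hfree _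
    (Z.mul_mem (Z.inv_mem hz₀) (hZn.conj_mem z₀ hz₀ g)) v
    (by rw [rho_mul, hconj, rho_inv_apply]) hv
  have hcomm : Commute g z₀ := by
    rw [inv_mul_eq_one, eq_mul_inv_iff_mul_eq] at h1
    exact h1.symm
  have hgC : g ∈ Subgroup.centralizer (Z : Set G) := Subgroup.mem_centralizer_iff.mpr fun z hz => by
    obtain ⟨k, hk⟩ := Subgroup.mem_zpowers_iff.mp (hgen ⟨z, hz⟩)
    rw [show z = z₀ ^ k from ((congrArg Subtype.val hk).symm.trans (Subgroup.coe_zpow _ _ _))]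
    exact (hcomm.zpow_right k).eq.symm
  rw [hfree g (hC hgC) v hgv hv, map_one]

/-- The homogeneous case. -/
theorem field_good [Finite G] [Finite V] [Nontrivial V] [Group.IsSolvable G]
    (hG : Odd (Nat.card G)) (ρ : G →* AddMonoid.End V) (hfaith : ∀ g, ρ g = 1 → g = 1)
    (Z : Subgroup G) [hZn : Z.Normal] (hZc : ∀ a ∈ Z, ∀ b ∈ Z, a * b = b * a)
    (hmax : ∀ B : Subgroup G, B.Normal → Z ≤ B → (∀ a ∈ B, ∀ b ∈ B, a * b = b * a) → B = Z)
    (R : Subring (AddMonoid.End V)) (hcomm : ∀ r ∈ R, ∀ s ∈ R, r * s = s * r)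
    (hinv : ∀ g, ∀ r ∈ R, cj ρ g r ∈ R) (hZR : ∀ z ∈ Z, ρ z ∈ R)
    (hgen : ∀ g ∈ Subgroup.centralizer (Z : Set G), ∀ r ∈ R, ρ g * r = r * ρ g)
    (hdiv : ∀ r ∈ R, r ≠ 0 → ∃ s ∈ R, r * s = 1)
    (ih : ∀ (W : Type u) [AddCommGroup W] [Finite W] (σ : G →* AddMonoid.End W),
      Nat.card W < Nat.card V → CR σ → Good σ) :
    Good ρ := by
  classical
  haveI : Finite (AddMonoid.End V) := Finite.of_injective _ DFunLike.coe_injective
  have hpair : ∃ x y : ↥R, x ≠ y := ⟨0, 1, fun h => by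
    obtain ⟨v, hv⟩ := exists_ne (0 : V)
    exact hv (DFunLike.congr_fun (congrArg Subtype.val h) v).symm⟩
  have hisF : IsField ↥R :=
    ⟨hpair, fun r s => Subtype.ext (hcomm r r.2 s s.2), fun {r} hr => by
      obtain ⟨s, hs, h⟩ := hdiv r r.2 fun h => hr (Subtype.ext h)
      exact ⟨⟨s, hs⟩, Subtype.ext h⟩⟩
  letI : Field ↥R := hisF.toField
  haveI := Fintype.ofFinite ↥R
  have hsmul : ∀ (r : ↥R) (x : V), r • x = (r : AddMonoid.End V) x := fun _ _ => rfl
  haveI : Module.Finite ↥R V := Module.Finite.of_finite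
  let ι : ↥Z →* ↥R :=
    { toFun := fun z => ⟨ρ z, hZR z z.2⟩
      map_one' := Subtype.ext (map_one ρ)
      map_mul' := fun a b => Subtype.ext (map_mul ρ (a : G) b) }
  have hιinj : Function.Injective ι := fun a b h => by
    refine Subtype.ext (eq_of_mul_inv_eq_one (hfaith _ ?_))
    rw [map_mul, show ρ (a : G) = ρ b from congrArg Subtype.val h, ← map_mul, mul_inv_cancel,
      map_one]
  haveI : IsCyclic ↥Z := isCyclic_of_subgroup_isDomain ι hιinj
  have hfree : ∀ z ∈ Z, ∀ x, ρ z x = x → x ≠ 0 → z = 1 := by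
    intro z hz x hx hx0
    refine hfaith z ?_
    by_contra h
    obtain ⟨s, hs, hrs⟩ := hdiv (ρ z - 1) (R.sub_mem (hZR z hz) R.one_mem) (sub_ne_zero.mpr h)
    rw [hcomm _ (R.sub_mem (hZR z hz) R.one_mem) s hs] at hrs
    refine hx0 ?_
    have : s ((ρ z - 1) x) = x := DFunLike.congr_fun hrs x
    rw [show (ρ z - 1) x = 0 from sub_eq_zero.mpr hx, map_zero] at this
    exact this.symm
  by_cases hCZ : Subgroup.centralizer (Z : Set G) ≤ Z
  · exact good_of_self_centralizing ρ Z hfree hCZ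
  let C := Subgroup.centralizer (Z : Set G)
  obtain ⟨q, hq⟩ : ∃ q, q = Nat.card ↥R := ⟨_, rfl⟩
  have hX : Nat.card V = q ^ Module.finrank ↥R V := hq ▸ Module.natCard_eq_pow_finrank
  have hZq : Nat.card Z ∣ q - 1 := by
    rw [hq, ← Nat.card_units]
    exact Subgroup.card_dvd_of_injective ι.toHomUnits fun a b h =>
      hιinj (congrArg Units.val h)
  -- the action on the field
  let σ : G →* (↥R ≃+* ↥R) :=
    { toFun := fun g =>
        { toFun := fun r => ⟨cj ρ g r, hinv g r r.2⟩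
          invFun := fun r => ⟨cj ρ g⁻¹ r, hinv g⁻¹ r r.2⟩
          left_inv := fun r => Subtype.ext (cj_inv_cj ρ g r.1)
          right_inv := fun r => Subtype.ext (by
            show cj ρ g (cj ρ g⁻¹ r.1) = r.1
            rw [← cj_comp, mul_inv_cancel, cj_one_left])
          map_mul' := fun r s => Subtype.ext (cj_mul ρ g r.1 s.1)
          map_add' := fun r s => Subtype.ext (cj_add ρ g r.1 s.1) }
      map_one' := RingEquiv.ext fun r => Subtype.ext (cj_one_left ρ r.1)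
      map_mul' := fun g h => RingEquiv.ext fun r => Subtype.ext (cj_comp ρ g h r.1) }
  have hker : σ.ker = C := by
    ext g
    rw [MonoidHom.mem_ker]
    constructor
    · intro h
      refine Subgroup.mem_centralizer_iff.mpr fun z hz => ?_
      have h2 : cj ρ g (ρ z) = ρ z :=
        congrArg Subtype.val (DFunLike.congr_fun h (⟨ρ z, hZR z hz⟩ : ↥R))
      rw [cj_rho] at h2
      have h3 := hfaith (g * z * g⁻¹ * z⁻¹) (by rw [map_mul, h2, ← map_mul, mul_inv_cancel, map_one])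
      rw [mul_inv_eq_one, mul_inv_eq_iff_eq_mul] at h3
      exact h3.symm
    · exact fun hg => RingEquiv.ext fun r => Subtype.ext (cj_of_comm ρ g r.1 (hgen g hg r.1 r.2))
  obtain ⟨p, hp⟩ := CharP.exists ↥R
  obtain ⟨d, hpp, hpd⟩ := FiniteField.card ↥R p
  haveI := Fact.mk hpp
  obtain ⟨a, ha⟩ : ∃ a, a = Nat.card σ.range := ⟨_, rfl⟩
  have hGC : Nat.card G = a * Nat.card C := by
    rw [← hker, ← σ.ker.card_mul_index, Subgroup.index_ker, ha, mul_comm]
  have ha_odd : Odd a := Odd.of_dvd_nat hG ⟨_, hGC⟩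
  have haq : 2 * a ≤ q := by
    haveI : Finite (↥R ≃+* ↥R) := Finite.of_injective _ DFunLike.coe_injective
    have h1 : a ∣ (d : ℕ) := by
      rw [ha, ← (CfsgLib.Semilinear.isCyclic_ringEquiv_and_card (F := ↥R) (q := p) (d := d) hpd).2]
      exact Subgroup.card_subgroup_dvd_card _
    calc 2 * a ≤ 2 ^ a := two_mul_le_two_pow a
      _ ≤ 2 ^ (d : ℕ) := Nat.pow_le_pow_right two_pos (Nat.le_of_dvd d.pos h1)
      _ ≤ p ^ (d : ℕ) := Nat.pow_le_pow_left hpp.two_le _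
      _ = q := by rw [hq, Nat.card_eq_fintype_card, hpd]
  -- the layer
  obtain ⟨N, hL, hcent⟩ := exists_layer hZc hmax
  haveI := hL.normal
  obtain ⟨e, he, hpr⟩ := exists_sq hL
  have he1 : e ≠ 1 := by
    rintro rfl
    refine hCZ fun c hc => hcent c hc fun y hy => cent_comm hc ?_
    rwa [Subgroup.eq_of_le_of_card_ge hL.le (by rw [he]; simp)]
  have heo : Odd e := (Nat.odd_pow_iff two_ne_zero).mp
    (Odd.of_dvd_nat (odd_card_of_dvd hG N) ⟨_, he⟩)
  have he3 : 3 ≤ e := by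
    obtain ⟨k, rfl⟩ := heo
    omega
  have hq0 : 2 ≤ q := by
    rw [hq, Nat.card_eq_fintype_card]
    exact Fintype.one_lt_card
  have hprime : ∀ r : ℕ, r.Prime → r ∣ e → r ∣ q - 1 := fun r hr hre => (hpr r hr hre).trans hZq
  have hqlt : ∀ r : ℕ, r.Prime → r ∣ e → r < q := fun r hr hre => by
    have := Nat.le_of_dvd (by omega) (hprime r hr hre)
    omega
  have hq4 : 4 ≤ q := by
    obtain ⟨r, hr, hre⟩ := Nat.exists_prime_and_dvd (show e ≠ 1 by omega)
    have h2 : r ≠ 2 := fun h => Nat.not_even_iff_odd.mpr heo (even_iff_two_dvd.mpr (h ▸ hre))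
    have := hr.two_le
    have := hqlt r hr hre
    omega
  have hen : e ≤ Module.finrank ↥R V := dim_bound ρ hfaith hL
    (fun g hg r x => by
      show ρ g ((r : AddMonoid.End V) x) = (r : AddMonoid.End V) (ρ g x)
      exact DFunLike.congr_fun (hgen g (hL.leC hg) r r.2) x)
    ι (fun z x => rfl) he
  obtain ⟨n, hn⟩ : ∃ n, n = Module.finrank ↥R V := ⟨_, rfl⟩
  rw [← hn] at hX hen
  have he2 : e ^ 2 < Nat.card V := by
    rw [hX]
    calc e ^ 2 ≤ n ^ 2 := Nat.pow_le_pow_left hen 2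
      _ < (2 ^ n) ^ 2 := Nat.pow_lt_pow_left Nat.lt_two_pow_self two_ne_zero
      _ = 4 ^ n := by rw [← pow_mul, mul_comm, pow_mul]; norm_num
      _ ≤ q ^ n := Nat.pow_le_pow_left hq4 n
  obtain ⟨h, hC, hh0, hh4, hh3, hh57, hh9⟩ := index_bound hG hL hcent he
    (fun W _ _ τ hW hcr => ih W τ (hW ▸ he2) hcr)
  -- fixed point spaces
  have hone : ∀ z ∈ Z, z ≠ 1 → Nat.card (fixedBy (ρ z)) = 1 := fun z hz hz1 => by
    have : fixedBy (ρ z) = ⊥ := (AddSubgroup.eq_bot_iff_forall _).mpr fun x hx => by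
      by_contra hx0
      exact hz1 (hfree z hz x hx hx0)
    rw [this, AddSubgroup.card_bot]
  have hout : ∀ g ∉ C, Nat.card (fixedBy (ρ g)) ^ 2 ≤ Nat.card V := by
    intro g hg
    obtain ⟨z, hz, hgz⟩ : ∃ z ∈ Z, ⁅g, z⁆ ≠ 1 := by
      by_contra hne
      push Not at hne
      exact hg (Subgroup.mem_centralizer_iff.mpr fun z hz =>
        (commutatorElement_eq_one_iff_mul_comm.mp (hne z hz)).symm)
    have h1 := hone ⁅g, z⁆ (by
      rw [commutatorElement_def]
      exact Z.mul_mem (hZn.conj_mem z hz g) (Z.inv_mem hz)) hgz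
    have h2 := fixed_sq ρ g z
    rwa [h1, mul_one] at h2
  have hcube : ∀ y ∈ N, y ∉ Z → Nat.card (fixedBy (ρ y)) ^ 3 ≤ Nat.card V := by
    intro y hy hyZ
    obtain ⟨f, hf, hyf⟩ : ∃ f ∈ N, ⁅y, f⁆ ≠ 1 := by
      by_contra hne
      push Not at hne
      exact hyZ (hL.nondeg y hy fun f hf => commutatorElement_eq_one_iff_mul_comm.mp (hne f hf))
    have hz := hL.comm y hy f hf
    refine fixed_cube ρ y f ⁅y, f⁆ (by simp [commutatorElement_def, mul_assoc])
      (cent_comm (hL.leC hy) hz) (cent_comm (hL.leC hf) hz) (fun x hx => ?_) (fun x hx => ?_)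
    · by_contra hx0
      exact hyf (hfree _ hz x hx hx0)
    · by_contra hx0
      have h2 := hfree _ (Z.mul_mem hz hz) x hx hx0
      exact hyf (Subgroup.mem_bot.mp (mem_of_sq_mem hG ⊥ (g := ⁅y, f⁆)
        (Subgroup.mem_bot.mpr (by rw [sq]; exact h2))))
  have hXpos : 0 < Nat.card V := Nat.card_pos
  have hin : ∀ g ∈ C, g ≠ 1 → Nat.card (fixedBy (ρ g)) ^ 3 ≤ Nat.card V ^ 2 := by
    intro g hg hg1
    by_cases hgZ : g ∈ Z
    · rw [hone g hgZ hg1, one_pow]
      exact Nat.one_le_pow _ _ hXpos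
    by_cases hgN : g ∈ N
    · exact (hcube g hgN hgZ).trans (Nat.le_self_pow two_ne_zero _)
    obtain ⟨M, _, _, τ, π, hπs, hπm, hπ0, hπa, -⟩ := exists_module hL
    obtain ⟨f, hf, hgf⟩ : ∃ f ∈ N, ⁅g, f⁆ ∉ Z := by
      by_contra hne
      push Not at hne
      refine hgN (mem_layer_of_trivial hL hcent hπs hπm hπ0 hπa hg (end_ext fun v => ?_))
      obtain ⟨x, rfl⟩ := hπs v
      show τ g (π x) = π x
      rw [hπa]
      have hc : ⁅g, (x : G)⁆ ∈ N := hL.le (hne x x.2)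
      rw [show (⟨g * x * g⁻¹, hL.normal.conj_mem x x.2 g⟩ : ↥N) = ⟨⁅g, (x : G)⁆, hc⟩ * x from
        Subtype.ext (by simp [commutatorElement_def]), hπm,
        (hπ0 _).mpr (show ((⟨⁅g, (x : G)⁆, hc⟩ : ↥N) : G) ∈ Z from hne x x.2), zero_add]
    have hcN : ⁅g, f⁆ ∈ N := by
      rw [commutatorElement_def]
      exact N.mul_mem (hL.normal.conj_mem f hf g) (N.inv_mem hf)
    have h1 := Nat.pow_le_pow_left (fixed_sq ρ g f) 3
    have h2 := hcube _ hcN hgf
    refine (Nat.pow_le_pow_iff_left (n := 2) two_ne_zero).mp ?_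
    calc (Nat.card (fixedBy (ρ g)) ^ 3) ^ 2 = (Nat.card (fixedBy (ρ g)) ^ 2) ^ 3 := by ring
      _ ≤ (Nat.card V * Nat.card (fixedBy (ρ ⁅g, f⁆))) ^ 3 := h1
      _ ≤ Nat.card V ^ 3 * Nat.card V := by rw [mul_pow]; exact Nat.mul_le_mul_left _ h2
      _ = (Nat.card V ^ 2) ^ 2 := by ring
  refine good_of_count ρ hG C hout hin ?_
  have hCle : Nat.card C ≤ (q - 1) * e ^ 2 * h := by
    rw [hC, he]
    exact Nat.mul_le_mul_right _ (mul_comm (q - 1) (e ^ 2) ▸
      Nat.mul_le_mul_left _ (Nat.le_of_dvd (by omega) hZq))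
  have hXe : q ^ e ≤ Nat.card V := hX ▸ Nat.pow_le_pow_right (by omega) hen
  by_cases hex : e = 3 ∧ q < 7
  · obtain ⟨rfl, hq7⟩ := hex
    have h3 := hprime 3 Nat.prime_three dvd_rfl
    have hq' : q = 4 := by omega
    subst hq'
    have ha1 : a = 1 := by
      obtain ⟨k, rfl⟩ := ha_odd
      omega
    refine Or.inl ⟨Subgroup.eq_top_of_card_eq C (by rw [hGC, ha1, one_mul]), ?_⟩
    rw [hh3 rfl] at hCle
    calc Nat.card C ^ 3 ≤ 27 ^ 3 := Nat.pow_le_pow_left (by simpa using hCle) 3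
      _ < 8 * (4 ^ 3) ^ 2 := by norm_num
      _ ≤ 8 * Nat.card V ^ 2 := Nat.mul_le_mul_left _ (Nat.pow_le_pow_left hXe 2)
  · have h27 : 27 * Nat.card C ^ 3 < 64 * Nat.card V ^ 2 := by
      calc 27 * Nat.card C ^ 3 ≤ 27 * ((q - 1) * e ^ 2 * h) ^ 3 :=
            Nat.mul_le_mul_left _ (Nat.pow_le_pow_left hCle 3)
        _ < 64 * (q ^ e) ^ 2 := count_arith heo he3 hq4 hqlt
            (fun h3 => not_lt.mp fun h7 => hex ⟨h3, h7⟩) hh4 hh3 hh57 hh9
        _ ≤ 64 * Nat.card V ^ 2 := Nat.mul_le_mul_left _ (Nat.pow_le_pow_left hXe 2)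
    refine Or.inr ⟨h27, ?_⟩
    have hq3 : q ^ 3 ≤ Nat.card V := hX ▸ Nat.pow_le_pow_right (by omega) (he3.trans hen)
    have hlt : 3 * q * Nat.card C < 4 * Nat.card V := by
      refine lt_of_pow_lt_pow_left₀ 3 (Nat.zero_le _) ?_
      calc (3 * q * Nat.card C) ^ 3 = q ^ 3 * (27 * Nat.card C ^ 3) := by ring
        _ < q ^ 3 * (64 * Nat.card V ^ 2) := Nat.mul_lt_mul_of_pos_left h27 (by positivity)
        _ ≤ Nat.card V * (64 * Nat.card V ^ 2) := Nat.mul_le_mul_right _ hq3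
        _ = (4 * Nat.card V) ^ 3 := by ring
    rw [hGC]
    nlinarith [Nat.mul_le_mul_right (Nat.card C) haq]

end CfsgLib.OddBase
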