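import Mathlib
import Cfsg.Agent.Lib.OddBase.Reduce
import Cfsg.Agent.Lib.OddBase.FieldCase

/-!
# Odd order completely reducible linear groups have a base of size two

The main theorem, for solvable groups of odd order.
-/

set_option autoImplicit false
set_option maxHeartbeats 800000
set_option linter.style.haveILetI false
set_option linter.unusedSectionVars false

namespace CfsgLib.OddBase

universe u v

/-- In a finite monoid some positive power of every element is idempotent. -/
theorem exists_pow_idem {M : Type*} [Monoid M] [Finite M] (r : M) :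
    ∃ n, 0 < n ∧ r ^ n * r ^ n = r ^ n := by
  obtain ⟨i, j, hne, hij⟩ := Finite.exists_ne_map_eq_of_infinite (fun k : ℕ => r ^ k)
  wlog hlt : i < j generalizing i j
  · exact this j i hne.symm hij.symm (by omega)
  obtain ⟨d, rfl⟩ := Nat.exists_eq_add_of_lt hlt
  have hstep : ∀ k m, i ≤ k → r ^ (k + m * (d + 1)) = r ^ k := by
    intro k m hk
    induction m with
    | zero => simp
    | succ m ih =>
      obtain ⟨l, rfl⟩ := Nat.exists_eq_add_of_le hk
      have e : i + l + (m + 1) * (d + 1) = (i + d + 1) + (l + m * (d + 1)) := by ring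
      rw [e, pow_add, ← hij, ← pow_add, ← add_assoc, ih]
  refine ⟨(i + 1) * (d + 1), Nat.mul_pos (Nat.succ_pos i) (Nat.succ_pos d), ?_⟩
  rw [← pow_add]
  exact hstep _ (i + 1) (by nlinarith)

variable {G V : Type u} [Group G] [AddCommGroup V]

/-- An irreducible group normalizing a commutative ring leaves no room for nilpotents in it. -/
theorem eq_zero_of_nilpotent [Finite V] {ρ : G →* AddMonoid.End V} [Nontrivial V] (hirr : Irr ρ)
    (R : Subring (AddMonoid.End V)) (hcomm : ∀ r ∈ R, ∀ s ∈ R, r * s = s * r)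
    (hinv : ∀ g, ∀ r ∈ R, cj ρ g r ∈ R) {r : AddMonoid.End V} (hr : r ∈ R) {n : ℕ}
    (hn : r ^ n = 0) : r = 0 := by
  classical
  haveI : Finite (AddMonoid.End V) := Finite.of_injective _ DFunLike.coe_injective
  let S : Set (AddMonoid.End V) := {s | s ∈ R ∧ ∃ k, s ^ k = 0}
  have hfin : S.Finite := Set.toFinite S
  obtain ⟨x, hx0, hx⟩ : ∃ x : V, x ≠ 0 ∧ ∀ s ∈ hfin.toFinset, s x = 0 := by
    have hsub : ∀ T : Finset (AddMonoid.End V), (∀ s ∈ T, s ∈ S) →
        ∃ x : V, x ≠ 0 ∧ ∀ s ∈ T, s x = 0 := by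
      intro T
      induction T using Finset.induction_on with
      | empty => exact fun _ => by obtain ⟨x, hx⟩ := exists_ne (0 : V); exact ⟨x, hx, by simp⟩
      | insert s T hsT ih =>
        intro hT
        obtain ⟨x, hx0, hx⟩ := ih fun t ht => hT t (Finset.mem_insert_of_mem ht)
        obtain ⟨hsR, k, hk⟩ := hT s (Finset.mem_insert_self s T)
        have hex : ∃ j, (s ^ j) x = 0 := ⟨k, by rw [hk]; rfl⟩
        have hj0 : Nat.find hex ≠ 0 := fun h => hx0 (by
          have := Nat.find_spec hex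
          rwa [h, pow_zero] at this)
        obtain ⟨j, hj⟩ := Nat.exists_eq_succ_of_ne_zero hj0
        refine ⟨(s ^ j) x, Nat.find_min hex (by omega), fun t ht => ?_⟩
        rcases Finset.mem_insert.mp ht with rfl | ht
        · have := Nat.find_spec hex
          rw [hj, pow_succ'] at this
          exact this
        · show (t * s ^ j) x = 0
          rw [hcomm t (hT t (Finset.mem_insert_of_mem ht)).1 _ (R.pow_mem hsR j)]
          show (s ^ j) (t x) = 0
          rw [hx t ht, map_zero]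
    exact hsub _ fun s hs => hfin.mem_toFinset.mp hs
  let K : AddSubgroup V :=
    { carrier := {y | ∀ s ∈ S, s y = 0}
      zero_mem' := fun s _ => map_zero s
      add_mem' := fun {a b} ha hb s hs => by rw [map_add, ha s hs, hb s hs, add_zero]
      neg_mem' := fun {a} ha s hs => by rw [map_neg, ha s hs, neg_zero] }
  have hK : Inv ρ K := by
    intro g y hy s hs
    have hs' : cj ρ g⁻¹ s ∈ S := by
      obtain ⟨hsR, k, hk⟩ := hs
      refine ⟨hinv _ s hsR, k, ?_⟩
      have : ∀ m, cj ρ g⁻¹ s ^ m = cj ρ g⁻¹ (s ^ m) := by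
        intro m
        induction m with
        | zero => rw [pow_zero, pow_zero, cj_one]
        | succ m ih => rw [pow_succ, pow_succ, ih, cj_mul]
      rw [this, hk, cj_zero]
    have h := cj_apply ρ g⁻¹ s (ρ g y)
    rw [rho_inv_apply, hy _ hs'] at h
    exact rho_injective ρ g⁻¹ (h.symm.trans (map_zero _).symm)
  rcases hirr K hK with h | h
  · exact absurd (AddSubgroup.mem_bot.mp (h ▸ show x ∈ K from
      fun s hs => hx s (hfin.mem_toFinset.mpr hs))) hx0
  · exact end_ext fun y => (show y ∈ K by rw [h]; trivial) r ⟨hr, n, hn⟩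

/-- The irreducible faithful case. -/
theorem good_irreducible [Finite G] [Finite V] [Nontrivial V] [Group.IsSolvable G]
    (hG : Odd (Nat.card G)) (ρ : G →* AddMonoid.End V) (hfaith : ∀ g, ρ g = 1 → g = 1)
    (hirr : Irr ρ)
    (ih : ∀ (H W : Type u) [Group H] [Finite H] [AddCommGroup W] [Finite W]
      (σ : H →* AddMonoid.End W), Nat.card W < Nat.card V → Odd (Nat.card H) →
        Group.IsSolvable H → CR σ → Good σ) :
    Good ρ := by
  haveI : Finite (AddMonoid.End V) := Finite.of_injective _ DFunLike.coe_injective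
  obtain ⟨Z, hZ⟩ := Set.Finite.exists_maximal
    (s := {B : Subgroup G | B.Normal ∧ ∀ a ∈ B, ∀ b ∈ B, a * b = b * a}) (Set.toFinite _)
    ⟨⊥, inferInstance, fun a ha b hb => by
      rw [Subgroup.mem_bot.mp ha, Subgroup.mem_bot.mp hb]⟩
  obtain ⟨hZn, hZc⟩ := hZ.1
  haveI := hZn
  have hmax : ∀ B : Subgroup G, B.Normal → Z ≤ B → (∀ a ∈ B, ∀ b ∈ B, a * b = b * a) → B = Z :=
    fun B hB hZB hBc => le_antisymm (hZ.2 ⟨hB, hBc⟩ hZB) hZB
  let S : Set (AddMonoid.End V) := ρ '' (Z : Set G)
  let R : Subring (AddMonoid.End V) := Subring.closure S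
  haveI : IsMulCommutative R := Subring.isMulCommutative_closure (by
    rintro _ ⟨a, ha, rfl⟩ _ ⟨b, hb, rfl⟩
    rw [← map_mul, ← map_mul, hZc a ha b hb])
  have hcomm : ∀ r ∈ R, ∀ s ∈ R, r * s = s * r := fun r hr s hs =>
    congrArg Subtype.val (mul_comm' (⟨r, hr⟩ : R) ⟨s, hs⟩)
  have hinv : ∀ g, ∀ r ∈ R, cj ρ g r ∈ R := by
    intro g r hr
    refine Subring.closure_induction ?_ ?_ ?_ ?_ ?_ ?_ hr
    · rintro _ ⟨z, hz, rfl⟩
      rw [cj_rho]
      exact Subring.subset_closure ⟨_, hZn.conj_mem z hz g, rfl⟩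
    · rw [cj_zero]; exact R.zero_mem
    · rw [cj_one]; exact R.one_mem
    · intro a b _ _ ha hb; rw [cj_add]; exact R.add_mem ha hb
    · intro a _ ha; rw [cj_neg]; exact R.neg_mem ha
    · intro a b _ _ ha hb; rw [cj_mul]; exact R.mul_mem ha hb
  by_cases hidem : ∃ f ∈ R, f * f = f ∧ f ≠ 0 ∧ f ≠ 1
  · obtain ⟨f, hfR, hf, hf0, hf1⟩ := hidem
    exact good_of_idempotent hG hirr R hcomm hinv hfR hf hf0 hf1 ih
  push Not at hidem
  refine field_good hG ρ hfaith Z hZc hmax R hcomm hinv
    (fun z hz => Subring.subset_closure ⟨z, hz, rfl⟩) (fun g hg r hr => ?_) (fun r hr hr0 => ?_)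
    (fun W _ _ σ hW hcr => ih G W σ hW hG inferInstance hcr)
  · refine (Subring.mem_centralizer_iff.mp
      (show r ∈ Subring.centralizer {ρ g} from ?_) (ρ g) rfl)
    refine (Subring.closure_le.mpr ?_) hr
    rintro _ ⟨z, hz, rfl⟩
    exact Subring.mem_centralizer_iff.mpr fun t ht => by
      rw [Set.mem_singleton_iff.mp ht, ← map_mul, ← map_mul,
        Subgroup.mem_centralizer_iff.mp hg z hz]
  · obtain ⟨n, hn, hidem'⟩ := exists_pow_idem r
    have h1 : r ^ n = 1 := hidem _ (R.pow_mem hr n) hidem' fun h =>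
      hr0 (eq_zero_of_nilpotent hirr R hcomm hinv hr h)
    refine ⟨r ^ (n - 1), R.pow_mem hr _, ?_⟩
    rw [← pow_succ', Nat.sub_add_cancel hn, h1]

theorem good_aux (n : ℕ) :
    ∀ (G V : Type u) [Group G] [Finite G] [AddCommGroup V] [Finite V]
      (ρ : G →* AddMonoid.End V), Nat.card V = n → Odd (Nat.card G) → Group.IsSolvable G →
        CR ρ → Good ρ := by
  induction n using Nat.strong_induction_on with
  | _ n ih =>
  intro G V _ _ _ _ ρ hn hG hsol hcr
  haveI := hsol
  by_cases hirr : Irr ρ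
  · rcases subsingleton_or_nontrivial V with hV | hV
    · exact ⟨0, 0, fun g _ _ => end_ext fun x => Subsingleton.elim _ _⟩
    haveI : Finite (AddMonoid.End V) := Finite.of_injective _ DFunLike.coe_injective
    let ψ : G →* (AddMonoid.End V)ˣ := ρ.toHomUnits
    let σ : ψ.range →* AddMonoid.End V := (Units.coeHom _).comp ψ.range.subtype
    haveI : Group.IsSolvable ψ.range := Group.isSolvable_of_surjective ψ.rangeRestrict_surjective
    obtain ⟨x, y, hxy⟩ := good_irreducible
      (Odd.of_dvd_nat hG (Subgroup.card_range_dvd ψ)) σ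
      (fun g h => Subtype.ext (Units.ext h))
      (fun U hU => hirr U fun g z hz => hU ⟨ψ g, g, rfl⟩ z hz)
      (fun H W _ _ _ _ τ hW hH hHs hHcr => ih _ (hn ▸ hW) H W τ rfl hH hHs hHcr)
    exact ⟨x, y, fun g h1 h2 => hxy ⟨ψ g, g, rfl⟩ h1 h2⟩
  · obtain ⟨U, hU, hU0, hU1⟩ : ∃ U, Inv ρ U ∧ U ≠ ⊥ ∧ U ≠ ⊤ := by
      simp only [Irr, not_forall, not_or] at hirr
      obtain ⟨U, hU, h⟩ := hirr
      exact ⟨U, hU, h⟩
    obtain ⟨W, hW, hUW, htop⟩ := hcr U hU
    have hlt : ∀ T : AddSubgroup V, T ≠ ⊤ → Nat.card T < n := fun T hT => hn ▸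
      lt_of_le_of_ne (Nat.le_of_dvd Nat.card_pos (AddSubgroup.card_addSubgroup_dvd_card _))
        fun h => hT (AddSubgroup.eq_top_of_card_eq _ h)
    have hW1 : W ≠ ⊤ := fun h => hU0 (by rwa [h, inf_top_eq] at hUW)
    exact good_of_sum hU hW hUW htop
      (ih _ (hlt U hU1) G U _ rfl hG hsol (restr_cr hcr U hU))
      (ih _ (hlt W hW1) G W _ rfl hG hsol (restr_cr hcr W hW))

/-- A completely reducible solvable group of odd order has two vectors with common stabilizer the
kernel. -/
theorem good_of_odd_solvable [Finite G] [Finite V] (ρ : G →* AddMonoid.End V)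
    (hG : Odd (Nat.card G)) (hsol : Group.IsSolvable G) (hcr : CR ρ) : Good ρ :=
  good_aux (Nat.card V) G V ρ rfl hG hsol hcr

/-- The same for a faithful action, in arbitrary universes. -/
theorem exists_two_vectors {A : Type u} {V : Type v} [Group A] [Finite A] [AddCommGroup V]
    [Finite V] [DistribMulAction A V] [FaithfulSMul A V] (hA : Odd (Nat.card A))
    (hsol : Group.IsSolvable A)
    (hcr : ∀ U : AddSubgroup V, (∀ a : A, ∀ v ∈ U, a • v ∈ U) →
      ∃ W : AddSubgroup V, (∀ a : A, ∀ w ∈ W, a • w ∈ W) ∧ U ⊓ W = ⊥ ∧ U ⊔ W = ⊤) :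
    ∃ v w : V, ∀ a : A, a • v = v → a • w = w → a = 1 := by
  let ρ : ULift.{v} A →* AddMonoid.End (ULift.{u} V) :=
    { toFun := fun a => AddMonoidHom.mk' (fun x => ULift.up (a.down • x.down))
        fun x y => congrArg ULift.up (smul_add a.down x.down y.down)
      map_one' := end_ext fun x => congrArg ULift.up (one_smul A x.down)
      map_mul' := fun a b => end_ext fun x => congrArg ULift.up (mul_smul a.down b.down x.down) }
  haveI := hsol
  haveI : Group.IsSolvable (ULift.{v} A) :=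
    Group.isSolvable_of_surjective
      (f := (MulEquiv.ulift.{u, v} (α := A)).symm.toMonoidHom) MulEquiv.ulift.symm.surjective
  let e : ULift.{u} V ≃+ V := AddEquiv.ulift
  have hcr' : CR ρ := by
    intro U hU
    obtain ⟨W, hW, h1, h2⟩ := hcr (U.map e.toAddMonoidHom) (by
      rintro a _ ⟨x, hx, rfl⟩
      exact ⟨_, hU (ULift.up a) x hx, rfl⟩)
    refine ⟨W.comap e.toAddMonoidHom, fun a x hx => hW a.down _ hx, ?_, ?_⟩
    · rw [AddSubgroup.eq_bot_iff_forall]
      rintro x ⟨hxU, hxW⟩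
      have : e x ∈ U.map e.toAddMonoidHom ⊓ W := ⟨⟨x, hxU, rfl⟩, hxW⟩
      rw [h1, AddSubgroup.mem_bot] at this
      exact e.injective (this.trans (map_zero e).symm)
    · rw [AddSubgroup.eq_top_iff']
      intro x
      have : e x ∈ U.map e.toAddMonoidHom ⊔ W := by rw [h2]; trivial
      obtain ⟨_, ⟨t, ht, rfl⟩, b, hb, hab⟩ := AddSubgroup.mem_sup.mp this
      refine AddSubgroup.mem_sup.mpr ⟨t, ht, x - t, ?_, add_sub_cancel t x⟩
      show e.toAddMonoidHom (x - t) ∈ W
      rw [map_sub, show e.toAddMonoidHom x = e x from rfl, ← hab]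
      simpa using hb
  obtain ⟨x, y, hxy⟩ := good_of_odd_solvable ρ
    (by rwa [Nat.card_congr Equiv.ulift]) inferInstance hcr'
  refine ⟨x.down, y.down, fun a ha hb => FaithfulSMul.eq_of_smul_eq_smul (α := V) fun z => ?_⟩
  have h := DFunLike.congr_fun (hxy (ULift.up a) (congrArg ULift.up ha) (congrArg ULift.up hb))
    (ULift.up z)
  rw [one_smul]
  exact congrArg ULift.down h

end CfsgLib.OddBase
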