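import Cfsg.Agent.Lib.OddBase.Basic
import Cfsg.Agent.Lib.CoreFree.Basic

/-!
# Regular orbits of odd order solvable groups on subsets (Gluck)

Every permutation group of odd order has a regular orbit on the power set.
-/

set_option autoImplicit false
set_option maxHeartbeats 800000
set_option linter.unusedSectionVars false
set_option linter.style.haveILetI false

namespace CfsgLib.OddBase

open scoped Classical Pointwise
open MulAction

universe u

/-! ### Arithmetic -/

/-- The arithmetic needed in the primitive case, away from the smallest degrees. -/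
theorem gluck_arith_big (p k : ℕ) (hp : 3 ≤ p) (hk : 2 ≤ k)
    (hbig : 49 ≤ p ^ k ∧ ¬ (k = 3 ∧ p = 3)) :
    (p ^ k) ^ (k + 1) * 2 ^ ((p ^ k + 2 * (p ^ k / p)) / 3) ≤ 2 ^ (p ^ k + 1) := by
  obtain ⟨n, hn⟩ : ∃ n, n = p ^ k := ⟨_, rfl⟩
  rw [← hn] at hbig ⊢
  obtain ⟨L, hL⟩ : ∃ L, L = Nat.clog 2 n := ⟨_, rfl⟩
  have h1 : n ≤ 2 ^ L := hL ▸ Nat.le_pow_clog one_lt_two n
  have h2 : 2 ^ (L - 1) < n := by
    have := Nat.pow_pred_clog_lt_self one_lt_two (show 1 < n by omega)
    rwa [← Nat.sub_one, ← hL] at this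
  have hL6 : 6 ≤ L := by
    by_contra h
    have : 2 ^ L ≤ 2 ^ 5 := Nat.pow_le_pow_right two_pos (by omega)
    omega
  have h3k : 3 * k ≤ 2 * L := by
    refine (Nat.pow_le_pow_iff_right one_lt_two).mp ?_
    calc 2 ^ (3 * k) = 8 ^ k := by rw [pow_mul]; norm_num
      _ ≤ 9 ^ k := Nat.pow_le_pow_left (by norm_num) k
      _ = (3 ^ k) ^ 2 := by rw [← pow_mul, mul_comm, pow_mul]; norm_num
      _ ≤ n ^ 2 := Nat.pow_le_pow_left (hn ▸ Nat.pow_le_pow_left hp k) 2
      _ ≤ (2 ^ L) ^ 2 := Nat.pow_le_pow_left h1 2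
      _ = 2 ^ (2 * L) := by rw [← pow_mul, mul_comm]
  have hkey : 9 * (k + 1) * L ≤ 4 * n := by
    rcases le_or_gt 8 L with h8 | h8
    · have hq : 6 * L * L + 9 * L ≤ 2 ^ (L + 1) := by
        have : ∀ j, 6 * (8 + j) * (8 + j) + 9 * (8 + j) ≤ 2 ^ (8 + j + 1) := by
          intro j
          induction j with
          | zero => norm_num
          | succ j ih => rw [show 8 + (j + 1) + 1 = (8 + j + 1) + 1 by omega, pow_succ]; nlinarith
        have := this (L - 8)
        rwa [show 8 + (L - 8) = L by omega] at this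
      have h4 : 2 ^ (L + 1) = 4 * 2 ^ (L - 1) := by
        rw [show L + 1 = (L - 1) + 2 by omega, pow_add]; ring
      nlinarith
    · have hk4 : k ≤ 4 := by omega
      have hn128 : n ≤ 128 := h1.trans (show 2 ^ L ≤ 2 ^ 7 from Nat.pow_le_pow_right two_pos (by omega))
      interval_cases L <;> interval_cases k <;> (try omega)
      all_goals
        have hp7 : p ≤ 11 := by
          by_contra h
          have := Nat.pow_le_pow_left (show 12 ≤ p by omega)
          have h5 := this 2
          have h6 := this 3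
          have h7 := this 4
          norm_num at h5 h6 h7 h2
          omega
        interval_cases p <;> norm_num at hn <;> omega
  have hc : (n + 2 * (n / p)) / 3 * 9 ≤ 5 * n := by
    have h6 : n / p * 3 ≤ n :=
      (Nat.mul_le_mul_left (n / p) hp).trans (Nat.div_mul_le_self n p)
    omega
  calc n ^ (k + 1) * 2 ^ ((n + 2 * (n / p)) / 3) ≤ (2 ^ L) ^ (k + 1) * 2 ^ ((n + 2 * (n / p)) / 3) :=
        Nat.mul_le_mul_right _ (Nat.pow_le_pow_left h1 _)
    _ = 2 ^ (L * (k + 1) + (n + 2 * (n / p)) / 3) := by rw [← pow_mul, pow_add]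
    _ ≤ 2 ^ (n + 1) := by
      refine Nat.pow_le_pow_right two_pos ?_
      nlinarith

/-- The arithmetic for prime degree. -/
theorem gluck_arith_one (p : ℕ) (hp : 3 ≤ p) (hodd : Odd p) :
    p * ((p - 1) / 2) * 2 ^ ((p + 2) / 3) ≤ 2 ^ (p + 1) := by
  rcases lt_or_ge p 11 with h | h
  · interval_cases p <;> norm_num at *
  · have h1 : ∀ j, (11 + j) ^ 6 ≤ 2 ^ (2 * (11 + j) + 1) := by
      intro j
      induction j with
      | zero => norm_num
      | succ j ih =>
        rw [show 2 * (11 + (j + 1)) + 1 = (2 * (11 + j) + 1) + 2 by omega, pow_add]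
        have h2 : (11 + (j + 1)) ^ 6 ≤ 2 * (11 + j) ^ 6 := by
          have h3 : 11 * (11 + (j + 1)) ≤ 12 * (11 + j) := by omega
          have h4 := Nat.pow_le_pow_left h3 6
          rw [mul_pow, mul_pow] at h4
          norm_num at h4 ⊢
          omega
        omega
    have h2 := h1 (p - 11)
    rw [show 11 + (p - 11) = p by omega] at h2
    have h3 : (p * ((p - 1) / 2)) ^ 3 ≤ p ^ 6 := by
      rw [show p ^ 6 = (p * p) ^ 3 by ring]
      exact Nat.pow_le_pow_left (Nat.mul_le_mul_left p (by omega)) 3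
    refine le_of_pow_le_pow_left₀ (n := 3) (by norm_num) (Nat.zero_le _) ?_
    rw [mul_pow, ← pow_mul, ← pow_mul]
    calc (p * ((p - 1) / 2)) ^ 3 * 2 ^ ((p + 2) / 3 * 3)
        ≤ 2 ^ (2 * p + 1) * 2 ^ (p + 2) :=
          Nat.mul_le_mul (h3.trans h2) (Nat.pow_le_pow_right two_pos (by omega))
      _ = 2 ^ ((p + 1) * 3) := by rw [← pow_add]; congr 1; ring

/-! ### Linear groups of odd order -/

theorem exists_generators {V : Type u} [AddCommGroup V] [Finite V] {p k : ℕ} (hp : p.Prime)
    (hV : Nat.card V = p ^ k) :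
    ∃ f : Fin k → V, AddSubgroup.closure (Set.range f) = ⊤ := by
  have : ∀ i ≤ k, ∃ f : Fin i → V, p ^ i ≤ Nat.card (AddSubgroup.closure (Set.range f)) ∨
      AddSubgroup.closure (Set.range f) = ⊤ := by
    intro i
    induction i with
    | zero => exact fun _ => ⟨Fin.elim0, Or.inl (by simp)⟩
    | succ i ih =>
      intro hi
      obtain ⟨f, hf⟩ := ih (by omega)
      by_cases htop : AddSubgroup.closure (Set.range f) = ⊤
      · refine ⟨Fin.cons 0 f, Or.inr (eq_top_iff.mpr (htop ▸ AddSubgroup.closure_mono ?_))⟩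
        rintro _ ⟨j, rfl⟩
        exact ⟨j.succ, by simp⟩
      · replace hf := hf.resolve_right htop
        obtain ⟨x, hx⟩ : ∃ x, x ∉ AddSubgroup.closure (Set.range f) := by
          by_contra h
          push Not at h
          exact htop ((AddSubgroup.eq_top_iff' _).mpr h)
        refine ⟨Fin.cons x f, Or.inl ?_⟩
        have hlt : AddSubgroup.closure (Set.range f) <
            AddSubgroup.closure (Set.range (Fin.cons x f : Fin (i + 1) → V)) := by
          refine lt_of_le_of_ne (AddSubgroup.closure_mono ?_) fun e => hx ?_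
          · rintro _ ⟨j, rfl⟩
            exact ⟨j.succ, by simp⟩
          · rw [e]
            exact AddSubgroup.subset_closure ⟨0, by simp⟩
        obtain ⟨a, -, ha⟩ := (Nat.dvd_prime_pow hp).mp
          (hV ▸ (AddSubgroup.closure
            (Set.range (Fin.cons x f : Fin (i + 1) → V))).card_addSubgroup_dvd_card)
        rw [ha]
        refine Nat.pow_le_pow_right hp.pos ?_
        by_contra hai
        have h1 : Nat.card (AddSubgroup.closure (Set.range f)) <
            Nat.card (AddSubgroup.closure (Set.range (Fin.cons x f : Fin (i + 1) → V))) :=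
          Set.Finite.card_lt_card (Set.toFinite _) hlt
        rw [ha] at h1
        have h2 := Nat.pow_le_pow_right hp.pos (show a ≤ i by omega)
        omega
  obtain ⟨f, hf⟩ := this k le_rfl
  refine ⟨f, hf.elim (fun h => AddSubgroup.eq_top_of_card_eq _ ?_) id⟩
  exact le_antisymm (Nat.le_of_dvd Nat.card_pos (AddSubgroup.card_addSubgroup_dvd_card _))
    (hV.symm ▸ h)

variable {H : Type u} [Group H] [Finite H] {V : Type u} [AddCommGroup V] [Finite V]
  {ρ : H →* AddMonoid.End V} {p k : ℕ}

theorem card_le_pow_of_faithful (hp : p.Prime) (hV : Nat.card V = p ^ k)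
    (hfaith : ∀ h, ρ h = 1 → h = 1) : Nat.card H ≤ (p ^ k) ^ k := by
  obtain ⟨f, hf⟩ := exists_generators hp hV
  refine le_trans (Nat.card_le_card_of_injective (fun h : H => fun i => ρ h (f i)) ?_) ?_
  · intro a b hab
    refine inv_mul_eq_one.mp (hfaith _ (end_ext fun x => ?_))
    have hS : ∀ m ∈ AddSubgroup.closure (Set.range f), ρ a m = ρ b m := by
      intro m hm
      induction hm using AddSubgroup.closure_induction with
      | mem y hy => obtain ⟨i, rfl⟩ := hy; exact congrFun hab i
      | zero => simp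
      | add y z _ _ hy hz => rw [map_add, map_add, hy, hz]
      | neg y _ hy => rw [map_neg, map_neg, hy]
    rw [rho_mul, ← hS x (hf ▸ trivial), rho_inv_apply]
    rfl
  · rw [Nat.card_fun, hV, Nat.card_eq_fintype_card, Fintype.card_fin]

theorem card_dvd_of_prime_card (hp : p.Prime) (hV : Nat.card V = p ^ 1)
    (hfaith : ∀ h, ρ h = 1 → h = 1) : Nat.card H ∣ p - 1 := by
  have h1 : Nat.card (⊤ : Subgroup H) ∣ Nat.card V - 1 := by
    refine card_dvd_pred ρ ⊤ fun g _ x hx hx0 => hfaith g ?_
    refine eq_one_of_fixedBy_card ρ g ?_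
    obtain ⟨a, ha, hae⟩ := (Nat.dvd_prime_pow hp).mp (hV ▸ card_fixedBy_dvd ρ g)
    rcases Nat.eq_zero_or_pos a with rfl | hapos
    · refine absurd ?_ hx0
      have := AddSubgroup.eq_bot_of_card_eq (fixedBy (ρ g)) (by simpa using hae)
      exact AddSubgroup.mem_bot.mp (this ▸ (show x ∈ fixedBy (ρ g) from hx))
    · rw [hV, hae, show a = 1 by omega]
  rw [Subgroup.card_top, hV, pow_one] at h1
  exact h1

/-- The prime divisors of a faithful group on nine or twenty-seven points. -/
theorem prime_dvd_three (hH : Odd (Nat.card H)) (hk : k ≤ 3) (hV : Nat.card V = 3 ^ k)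
    (hfaith : ∀ h, ρ h = 1 → h = 1) {r : ℕ} (hr : r.Prime) (hrd : r ∣ Nat.card H) :
    r = 3 ∨ (r = 13 ∧ k = 3) := by
  haveI := Fact.mk hr
  obtain ⟨y, hy⟩ := exists_prime_orderOf_dvd_card' r hrd
  have h1 := card_modEq_fixedBy ρ y (j := 1) (by rw [hy, pow_one])
  obtain ⟨a, ha, hae⟩ := (Nat.dvd_prime_pow Nat.prime_three).mp (hV ▸ card_fixedBy_dvd ρ y)
  rw [hV, hae] at h1
  have hak : a ≠ k := fun h => by
    have := hfaith y (eq_one_of_fixedBy_card ρ y (by rw [hV, hae, h]))
    rw [this, orderOf_one] at hy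
    exact hr.one_lt.ne hy
  have h3 : r ∣ 3 ^ k - 3 ^ a :=
    (Nat.modEq_iff_dvd' (Nat.pow_le_pow_right (by norm_num) ha)).mp h1.symm
  have h4 := Nat.le_of_dvd
    (Nat.sub_pos_of_lt (Nat.pow_lt_pow_right (by norm_num) (lt_of_le_of_ne ha hak))) h3
  have hr2 : r ≠ 2 := by
    rintro rfl
    exact Nat.not_even_iff_odd.mpr hH (even_iff_two_dvd.mpr hrd)
  interval_cases k <;> interval_cases a <;> norm_num at h3 h4 hak <;> interval_cases r <;>
    norm_num at *

theorem card_eq_one_of_nine [Group.IsSolvable H] (hH : Odd (Nat.card H)) (hV : Nat.card V = 3 ^ 2)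
    (hfaith : ∀ h, ρ h = 1 → h = 1) (hcr : CR ρ) : Nat.card H = 1 := by
  have hH3 : IsPGroup 3 (⊤ : Subgroup H) := by
    refine IsPGroup.of_card (Nat.eq_prime_pow_of_unique_prime_dvd Nat.card_pos.ne' fun {r} hr hrd => ?_)
    rw [Subgroup.card_top] at hrd
    exact (prime_dvd_three hH (by norm_num) hV hfaith hr hrd).resolve_right fun h => by
      simp at h
  rw [← Subgroup.card_top, Subgroup.card_eq_one, Subgroup.eq_bot_iff_forall]
  exact fun g hg => hfaith g (normal_pgroup_trivial hcr hV ⊤ hH3 g hg)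

theorem card_le_of_twentyseven [Group.IsSolvable H] (hH : Odd (Nat.card H))
    (hV : Nat.card V = 3 ^ 3) (hfaith : ∀ h, ρ h = 1 → h = 1) (hcr : CR ρ) :
    Nat.card H ≤ 39 := by
  haveI : Fact (Nat.Prime 13) := ⟨by norm_num⟩
  have hd := small_bound hcr hV (⊤ : Subgroup H) (ℓ := 13) (fun g _ => hfaith g)
    (by norm_num) (fun r hr hrd => ?_) (fun g _ hg x hx hx0 => ?_) (by rw [hV]; norm_num)
  · rw [Subgroup.card_top] at hd
    norm_num at hd
    have h1 := Nat.le_of_dvd (by norm_num) hd
    obtain ⟨j, hj⟩ := hH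
    obtain ⟨c, hc'⟩ := hd
    by_contra hc
    have : c < 4 := by nlinarith
    interval_cases c <;> omega
  · rw [Subgroup.card_top] at hrd
    exact (prime_dvd_three hH le_rfl hV hfaith hr hrd).imp id And.left
  · by_contra hg1
    obtain ⟨j, hj⟩ := hg
    have h1 := card_modEq_fixedBy ρ g hj
    obtain ⟨a, ha, hae⟩ := (Nat.dvd_prime_pow Nat.prime_three).mp (hV ▸ card_fixedBy_dvd ρ g)
    rw [hV, hae] at h1
    have h0 : a ≠ 0 := fun h => hx0 (AddSubgroup.mem_bot.mp
      (AddSubgroup.eq_bot_of_card_eq (fixedBy (ρ g)) (by rw [hae, h, pow_zero]) ▸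
        (show x ∈ fixedBy (ρ g) from hx)))
    have h3 : a ≠ 3 := fun h => hg1 (hfaith g (eq_one_of_fixedBy_card ρ g (by rw [hV, hae, h])))
    interval_cases a
    · exact h0 rfl
    · exact absurd h1 (by decide)
    · exact absurd h1 (by decide)
    · exact h3 rfl

/-- The count needed for an affine primitive group of odd order. -/
theorem gluck_linear_bound [Group.IsSolvable H] (hH : Odd (Nat.card H)) (hp : p.Prime)
    (hp3 : 3 ≤ p) (hk : k ≠ 0) (hV : Nat.card V = p ^ k) (hfaith : ∀ h, ρ h = 1 → h = 1)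
    (hcr : CR ρ) :
    p ^ k * Nat.card H * 2 ^ ((p ^ k + 2 * (p ^ k / p)) / 3) ≤ 2 ^ (p ^ k + 1) := by
  have hpodd : Odd p := hp.odd_of_ne_two (by omega)
  rcases Nat.lt_or_ge k 2 with hk1 | hk2
  · obtain rfl : k = 1 := by omega
    have hH2 : Nat.card H ≤ (p - 1) / 2 := by
      obtain ⟨c, hc⟩ := card_dvd_of_prime_card hp hV hfaith
      have hc2 : 2 ≤ c := by
        by_contra hc2
        obtain ⟨i, hi⟩ := hpodd
        obtain ⟨j, hj⟩ := hH
        interval_cases c <;> omega
      rw [Nat.le_div_iff_mul_le two_pos]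
      nlinarith
    have := gluck_arith_one p hp3 hpodd
    simp only [pow_one, Nat.div_self hp.pos, mul_one]
    exact le_trans (Nat.mul_le_mul_right _ (Nat.mul_le_mul_left p hH2)) this
  by_cases h9 : k = 2 ∧ p = 3
  · obtain ⟨rfl, rfl⟩ := h9
    rw [card_eq_one_of_nine hH hV hfaith hcr]
    norm_num
  by_cases h27 : k = 3 ∧ p = 3
  · obtain ⟨rfl, rfl⟩ := h27
    refine le_trans (Nat.mul_le_mul_right _ (Nat.mul_le_mul_left _
      (card_le_of_twentyseven hH hV hfaith hcr))) ?_
    norm_num
  refine le_trans (Nat.mul_le_mul_right _ (Nat.mul_le_mul_left _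
    (card_le_pow_of_faithful hp hV hfaith))) ?_
  by_cases h25 : k = 2 ∧ p = 5
  · obtain ⟨rfl, rfl⟩ := h25
    norm_num
  rw [← pow_succ']
  refine gluck_arith_big p k hp3 hk2 ⟨?_, h27⟩
  obtain ⟨i, hi⟩ := hpodd
  rcases Nat.lt_or_ge k 3 with h3 | h3
  · obtain rfl : k = 2 := by omega
    have h7 : 7 ≤ p := by omega
    calc 49 = 7 ^ 2 := by norm_num
      _ ≤ p ^ 2 := Nat.pow_le_pow_left h7 2
  rcases Nat.lt_or_ge k 4 with h4 | h4
  · obtain rfl : k = 3 := by omega
    have h5 : 5 ≤ p := by omega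
    calc 49 ≤ 5 ^ 3 := by norm_num
      _ ≤ p ^ 3 := Nat.pow_le_pow_left h5 3
  calc 49 ≤ 3 ^ 4 := by norm_num
    _ ≤ p ^ 4 := Nat.pow_le_pow_left hp3 4
    _ ≤ p ^ k := Nat.pow_le_pow_right hp.pos h4

/-! ### Orbit counts -/

/-- The number of subsets fixed by an element of odd order. -/
theorem card_fixed_fun_le {G : Type*} [Group G] [Finite G] (hG : Odd (Nat.card G)) {Ω : Type*}
    [MulAction G Ω] [Finite Ω] (g : G) {f : ℕ} (hf : Nat.card {x : Ω // g • x = x} ≤ f) :
    Nat.card {s : Ω → Bool // ∀ x, s (g • x) = s x} ≤ 2 ^ ((Nat.card Ω + 2 * f) / 3) := by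
  let P := Subgroup.zpowers g
  let Q := Quotient (orbitRel P Ω)
  haveI : Finite Q := Quotient.finite _
  haveI := Fintype.ofFinite Q
  have hconst : ∀ s : {s : Ω → Bool // ∀ x, s (g • x) = s x}, ∀ x y : Ω,
      (orbitRel P Ω).r x y → s.1 x = s.1 y := by
    rintro ⟨s, hs⟩ x y ⟨⟨a, ha⟩, rfl⟩
    let S : Subgroup G :=
      { carrier := {b | ∀ z, s (b • z) = s z}
        one_mem' := fun z => by rw [one_smul]
        mul_mem' := fun {b c} hb hc z => by rw [mul_smul, hb, hc]
        inv_mem' := fun {b} hb z => by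
          conv_rhs => rw [← smul_inv_smul b z]
          rw [hb] }
    exact (Subgroup.zpowers_le.mpr (show g ∈ S from hs)) ha y
  let Φ : {s : Ω → Bool // ∀ x, s (g • x) = s x} → (Q → Bool) := fun s q => s.1 q.out
  have hΦ : Function.Injective Φ := by
    intro s t h
    refine Subtype.ext (funext fun x => ?_)
    have := congrFun h (Quotient.mk'' x)
    have hx : (orbitRel P Ω).r (Quotient.mk'' x : Q).out x := Quotient.exact (Quotient.out_eq _)
    rw [← hconst s _ _ hx, ← hconst t _ _ hx]
    exact this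
  refine (Nat.card_le_card_of_injective Φ hΦ).trans ?_
  rw [Nat.card_fun, Nat.card_eq_two_iff.mpr ⟨false, true, by simp, by ext b; cases b <;> simp⟩]
  refine Nat.pow_le_pow_right two_pos ((Nat.le_div_iff_mul_le (by norm_num)).mpr ?_)
  haveI := Fintype.ofFinite Ω
  let sz : Q → ℕ := fun q => Nat.card (orbit P q.out)
  have hsum : Nat.card Ω = ∑ q, sz q := by
    rw [Nat.card_congr (MulAction.selfEquivSigmaOrbits P Ω), Nat.card_sigma]
  have hone : (Finset.univ.filter fun q : Q => sz q = 1).card ≤ f := by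
    refine le_trans ?_ hf
    rw [Nat.card_eq_fintype_card, Fintype.card_subtype]
    refine Finset.card_le_card_of_injOn (fun q => q.out) (fun q hq => ?_)
      (fun q _ q' _ h => Quotient.out_injective h)
    simp only [Finset.coe_filter, Finset.mem_univ, true_and, Set.mem_ofPred_eq] at hq ⊢
    obtain ⟨hsub, -⟩ := Nat.card_eq_one_iff_unique.mp hq
    exact congrArg Subtype.val (hsub.elim
      (⟨g • q.out, ⟨⟨g, Subgroup.mem_zpowers g⟩, rfl⟩⟩ : orbit P q.out) ⟨q.out, mem_orbit_self _⟩)
  have hthree : ∀ q, 3 ≤ sz q + (if sz q = 1 then 2 else 0) := by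
    intro q
    have hd : sz q ∣ Nat.card P := by
      simp only [sz]
      rw [Nat.card_congr (orbitEquivQuotientStabilizer P q.out)]
      exact Subgroup.card_quotient_dvd_card _
    have ho : Odd (sz q) := Odd.of_dvd_nat (odd_card_of_dvd hG P) hd
    obtain ⟨j, hj⟩ := ho
    split_ifs with h <;> omega
  have h3 : Nat.card Q * 3 ≤ ∑ q, (sz q + (if sz q = 1 then 2 else 0)) := by
    rw [Nat.card_eq_fintype_card, ← Finset.card_univ, ← smul_eq_mul, ← Finset.sum_const]
    exact Finset.sum_le_sum fun q _ => hthree q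
  rw [Finset.sum_add_distrib, ← hsum, Finset.sum_ite, Finset.sum_const_zero, add_zero,
    Finset.sum_const, smul_eq_mul] at h3
  omega

/-! ### The primitive case -/

theorem gluck_primitive {G : Type u} [Group G] [Finite G] (hG : Odd (Nat.card G))
    [Group.IsSolvable G] {Ω : Type u} [MulAction G Ω] [FaithfulSMul G Ω] [Finite Ω]
    (hn : 2 ≤ Nat.card Ω) (hprim : MulAction.IsPreprimitive G Ω) :
    ∃ s : Ω → Bool, ∀ g : G, (∀ x, s (g • x) = s x) → g = 1 := by
  haveI : Nonempty Ω := (Nat.card_pos_iff.mp (show 0 < Nat.card Ω by omega)).1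
  haveI : Nontrivial Ω := Finite.one_lt_card_iff_nontrivial.mp (by omega)
  obtain ⟨ω₀⟩ := ‹Nonempty Ω›
  haveI := hprim.toIsPretransitive
  have hGne : (⊤ : Subgroup G) ≠ ⊥ := by
    intro h
    obtain ⟨x, y, hxy⟩ := exists_pair_ne Ω
    obtain ⟨g, hg⟩ := exists_smul_eq G x y
    have : g = 1 := Subgroup.mem_bot.mp (h ▸ Subgroup.mem_top g)
    rw [this, one_smul] at hg
    exact hxy hg
  obtain ⟨M, hMn, hM0, -, hmin⟩ := CfsgLib.Solvable.exists_minimal_normal_le (⊤ : Subgroup G) hGne
  haveI := hMn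
  obtain ⟨hab, p, hp, hexp⟩ := CfsgLib.Solvable.minimal_normal_elementary_abelian M hM0 hmin
  haveI := Fact.mk hp
  haveI := hab
  letI : CommGroup ↥M :=
    { (inferInstance : Group ↥M) with mul_comm := fun a b => hab.is_comm.comm a b }
  haveI ht := CfsgLib.Perm.isPretransitive_of_normal (α := Ω) M hM0
  have hs : ∀ ω : Ω, stabilizer M ω = ⊥ := fun ω =>
    CfsgLib.Perm.stabilizer_eq_bot_of_commutative M hab ω
  have hMp : IsPGroup p M := fun x => ⟨1, Subtype.ext (by simpa using hexp x x.2)⟩
  obtain ⟨k, hk⟩ := IsPGroup.iff_card.mp hMp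
  have hn' : Nat.card Ω = p ^ k := by
    rw [← CfsgLib.Perm.card_eq_of_regular M ω₀ ht (hs ω₀), hk]
  have hk0 : k ≠ 0 := fun h => by rw [h, pow_zero] at hn'; omega
  have hp3 : 3 ≤ p := by
    have : Odd p := Odd.of_dvd_nat (odd_card_of_dvd hG M) (hk ▸ dvd_pow_self p hk0)
    obtain ⟨j, hj⟩ := this
    have := hp.two_le
    omega
  have hpodd : Odd p := hp.odd_of_ne_two (by omega)
  -- facts about every point stabilizer
  have hfix : ∀ g : G, g ≠ 1 → Nat.card {x : Ω // g • x = x} ≤ p ^ k / p := by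
    intro g hg
    rcases isEmpty_or_nonempty {x : Ω // g • x = x} with he | ⟨⟨ω, hω⟩⟩
    · simp
    obtain ⟨-, hcent, -⟩ := CfsgLib.CoreFree.primitive_complement hprim M hM0 hmin ω
    have hmove : ∀ x : {x : Ω // g • x = x}, ∃ m : M, m • ω = x.1 := fun x => exists_smul_eq M ω x.1
    choose μ hμ using hmove
    let K : Subgroup M :=
      { carrier := {m | g * (m : G) = m * g}
        one_mem' := by simp
        mul_mem' := fun {a b} ha hb => by
          simp only [Set.mem_ofPred_eq, Subgroup.coe_mul] at ha hb ⊢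
          rw [← mul_assoc, ha, mul_assoc, hb, mul_assoc]
        inv_mem' := fun {a} ha => by
          simp only [Set.mem_ofPred_eq, InvMemClass.coe_inv] at ha ⊢
          rw [eq_inv_mul_iff_mul_eq, ← mul_assoc, ← ha, mul_inv_cancel_right] }
    have hK : ∀ x, μ x ∈ K := by
      intro x
      show g * (μ x : G) = μ x * g
      have hx : ((⟨g * μ x * g⁻¹, hMn.conj_mem _ (μ x).2 g⟩ : M)⁻¹ * μ x) ∈ stabilizer M ω := by
        rw [mem_stabilizer_iff, mul_smul, hμ x, inv_smul_eq_iff]
        show x.1 = (g * (μ x : G) * g⁻¹) • ω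
        have hω' : g⁻¹ • ω = ω := by
          rw [inv_smul_eq_iff, hω]
        rw [mul_smul, mul_smul, hω', show ((μ x : G) • ω) = x.1 from hμ x, x.2]
      rw [hs ω, Subgroup.mem_bot, inv_mul_eq_one] at hx
      have := congrArg Subtype.val hx
      simp only at this
      exact mul_inv_eq_iff_eq_mul.mp this
    have hKtop : K ≠ ⊤ := by
      intro h
      refine hg (Subgroup.mem_bot.mp (hcent ▸ Subgroup.mem_inf.mpr ⟨hω, ?_⟩))
      rw [Subgroup.mem_centralizer_iff]
      intro m hm
      have : (⟨m, hm⟩ : M) ∈ K := by rw [h]; trivial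
      exact this.symm
    refine le_trans (Nat.card_le_card_of_injective (fun x => (⟨μ x, hK x⟩ : K)) ?_) ?_
    · intro x y h
      have h2 : μ x = μ y := congrArg Subtype.val h
      exact Subtype.ext (by rw [← hμ x, ← hμ y, h2])
    obtain ⟨a, -, ha⟩ := (Nat.dvd_prime_pow hp).mp (hk ▸ K.card_subgroup_dvd_card)
    rw [ha, Nat.le_div_iff_mul_le hp.pos, ← pow_succ]
    refine Nat.pow_le_pow_right hp.pos ?_
    by_contra hc
    refine hKtop (Subgroup.eq_top_of_card_eq K (le_antisymm (Subgroup.card_le_card_group _) ?_))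
    rw [hk, ha]
    exact Nat.pow_le_pow_right hp.pos (by omega)
  -- the stabilizer as a linear group
  obtain ⟨hcomp, hcentH, hirr⟩ := CfsgLib.CoreFree.primitive_complement hprim M hM0 hmin ω₀
  let H := stabilizer G ω₀
  have hcardG : Nat.card G = p ^ k * Nat.card H := by
    rw [← hcomp.card_mul_card, hk]
  let ρ : ↥H →* AddMonoid.End (Additive ↥M) :=
    { toFun := fun h => (MonoidHom.toAdditive (MulAut.conjNormal (h : G)).toMonoidHom :
        AddMonoid.End (Additive ↥M))
      map_one' := end_ext (V := Additive ↥M) fun x => by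
        show Additive.ofMul (MulAut.conjNormal ((1 : ↥H) : G) (Additive.toMul x)) = x
        simp
      map_mul' := fun a b => end_ext (V := Additive ↥M) fun x => by
        show Additive.ofMul (MulAut.conjNormal ((a * b : ↥H) : G) (Additive.toMul x)) =
          Additive.ofMul (MulAut.conjNormal (a : G) (MulAut.conjNormal (b : G) (Additive.toMul x)))
        rw [Subgroup.coe_mul, map_mul]
        rfl }
  have hρ : ∀ (h : ↥H) (m : ↥M), ((ρ h (Additive.ofMul m)).toMul : G) = h * m * (h : G)⁻¹ :=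
    fun h m => rfl
  have hfaith : ∀ h : ↥H, ρ h = 1 → h = 1 := by
    intro h he
    refine Subtype.ext (Subgroup.mem_bot.mp (hcentH ▸ Subgroup.mem_inf.mpr ⟨h.2, ?_⟩))
    rw [Subgroup.mem_centralizer_iff]
    intro m hm
    have h1 := hρ h ⟨m, hm⟩
    rw [he] at h1
    change m = (h : G) * m * (h : G)⁻¹ at h1
    conv_lhs => rw [h1]
    group
  have hVc : Nat.card (Additive ↥M) = p ^ k := hk
  have hcr : CR ρ := by
    intro U hU
    let U' : Subgroup G := ((AddSubgroup.toSubgroup' U).map M.subtype)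
    have hU' : ∀ x : ↥M, (x : G) ∈ U' ↔ Additive.ofMul x ∈ U := by
      intro x
      simp only [U', Subgroup.mem_map, Subgroup.coe_subtype]
      exact ⟨fun ⟨y, hy, e⟩ => Subtype.ext e ▸ hy, fun h => ⟨x, h, rfl⟩⟩
    have hU'M : U' ≤ M := by
      rintro _ ⟨y, -, rfl⟩
      exact y.2
    have hn : ∀ h ∈ H, ∀ x ∈ U', h * x * h⁻¹ ∈ U' := by
      intro h hh x hx
      have hxM := hU'M hx
      have := hU ⟨h, hh⟩ _ ((hU' ⟨x, hxM⟩).mp hx)
      exact (hU' ⟨h * x * h⁻¹, hMn.conj_mem x hxM h⟩).mpr this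
    have hnorm : stabilizer G ω₀ ≤ Subgroup.normalizer (U' : Set G) := by
      intro h hh
      rw [Subgroup.mem_normalizer_iff]
      intro x
      refine ⟨hn h hh x, fun hx => ?_⟩
      have := hn h⁻¹ (H.inv_mem hh) _ hx
      simpa [mul_assoc] using this
    rcases hirr U' hU'M hnorm with h | h
    · refine ⟨⊤, fun _ _ _ => trivial, ?_, by simp⟩
      rw [inf_top_eq]
      refine (AddSubgroup.eq_bot_iff_forall _).mpr fun x hx => ?_
      have : ((Additive.toMul x : ↥M) : G) ∈ U' := (hU' _).mpr hx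
      rw [h, Subgroup.mem_bot] at this
      exact Subtype.ext this
    · refine ⟨⊥, fun g x hx => by rw [AddSubgroup.mem_bot] at hx ⊢; rw [hx, map_zero], by simp, ?_⟩
      rw [sup_bot_eq, AddSubgroup.eq_top_iff']
      intro x
      exact (hU' (Additive.toMul x)).mp (by rw [h]; exact (Additive.toMul x).2)
  haveI : Finite (Additive ↥M) := inferInstanceAs (Finite ↥M)
  have hHodd : Odd (Nat.card H) := odd_card_of_dvd hG H
  -- the size of the group
  haveI := Fintype.ofFinite G
  suffices hsize : Nat.card G * 2 ^ ((p ^ k + 2 * (p ^ k / p)) / 3) ≤ 2 ^ (p ^ k + 1) by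
    letI : MulAction G (Ω → Bool) := arrowAction
    haveI := Fintype.ofFinite Ω
    have hfixs : ∀ g : G, g ≠ 1 → Nat.card {s : Ω → Bool // g • s = s} ≤
        2 ^ ((p ^ k + 2 * (p ^ k / p)) / 3) := by
      intro g hg
      have h2 := card_fixed_fun_le hG g (hfix g hg)
      rw [hn'] at h2
      refine le_trans (le_of_eq (Nat.card_congr (Equiv.subtypeEquivRight fun s => ?_))) h2
      constructor
      · intro h x
        have := congrFun h (g • x)
        change s (g⁻¹ • g • x) = s (g • x) at this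
        rw [inv_smul_smul] at this
        exact this.symm
      · intro h
        funext x
        show s (g⁻¹ • x) = s x
        conv_rhs => rw [← smul_inv_smul g x, h]
    have hX : Fintype.card (Ω → Bool) = 2 ^ p ^ k := by
      rw [Fintype.card_fun, Fintype.card_bool, ← Nat.card_eq_fintype_card, hn']
    obtain ⟨s, hs'⟩ := exists_trivial_stabilizer hG (X := Ω → Bool) (by
      refine lt_of_le_of_lt (Finset.sum_le_sum fun g hg => hfixs g (Finset.ne_of_mem_erase hg)) ?_
      rw [Finset.sum_const, smul_eq_mul, Finset.card_erase_of_mem (Finset.mem_univ _),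
        Finset.card_univ, ← Nat.card_eq_fintype_card, hX, ← pow_succ']
      refine lt_of_lt_of_le ?_ hsize
      exact Nat.mul_lt_mul_of_pos_right (Nat.sub_lt Nat.card_pos one_pos) (by positivity))
    exact ⟨s, fun g hg => hs' g (funext fun x => by
      show s (g⁻¹ • x) = s x
      rw [← hg (g⁻¹ • x), smul_inv_smul])⟩
  rw [hcardG]
  exact gluck_linear_bound hHodd hp hp3 hk0 hVc hfaith hcr

/-! ### The general case -/

theorem gluck_aux (n : ℕ) : ∀ (G : Type u) [Group G] [Finite G] (Ω : Type u) [MulAction G Ω]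
    [Finite Ω], Nat.card Ω = n → Odd (Nat.card G) → Group.IsSolvable G →
    ∃ s : Ω → Bool, ∀ g : G, (∀ x, s (g • x) = s x) → ∀ x : Ω, g • x = x := by
  induction n using Nat.strong_induction_on with
  | _ n ih =>
  intro G _ _ Ω _ _ hn hG hsol
  rcases Nat.lt_or_ge n 2 with h1 | h2
  · haveI : Subsingleton Ω := Finite.card_le_one_iff_subsingleton.mp (by omega)
    exact ⟨fun _ => true, fun g _ x => Subsingleton.elim _ _⟩
  obtain ⟨ω⟩ : Nonempty Ω := (Nat.card_pos_iff.mp (by omega)).1
  by_cases htr : IsPretransitive G Ω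
  · by_cases hprim : IsPreprimitive G Ω
    · -- pass to the faithful quotient
      let φ := MulAction.toPermHom G Ω
      haveI : Group.IsSolvable φ.range := Group.isSolvable_of_surjective φ.rangeRestrict_surjective
      have hodd : Odd (Nat.card φ.range) := Odd.of_dvd_nat hG (Subgroup.card_range_dvd φ)
      haveI : FaithfulSMul φ.range Ω :=
        ⟨fun {a b} h => Subtype.ext (Equiv.ext fun x => h x)⟩
      have hp' : IsPreprimitive φ.range Ω :=
        IsPreprimitive.of_surjective (f := (⟨id, fun g x => rfl⟩ :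
          Ω →ₑ[φ.rangeRestrict] Ω)) Function.surjective_id
      obtain ⟨s, hs⟩ := gluck_primitive hodd (by omega) hp'
      refine ⟨s, fun g hg x => ?_⟩
      have h1 := hs (φ.rangeRestrict g) hg
      exact congrArg (fun e : φ.range => e • x) h1 |>.trans (one_smul _ x)
    · -- a non-trivial block
      obtain ⟨B, hB, hBnt⟩ : ∃ B : Set Ω, IsBlock G B ∧ ¬ IsTrivialBlock B := by
        by_contra hc
        push Not at hc
        exact hprim { htr with isTrivialBlock_of_isBlock := fun {B} hB => hc B hB }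
      simp only [IsTrivialBlock, not_or, Set.not_subsingleton_iff] at hBnt
      obtain ⟨b₀, hb₀⟩ := hBnt.1.nonempty
      let S := stabilizer G B
      have hBlt : Nat.card B < n := by
        rw [← hn, ← Nat.card_univ (α := Ω)]
        exact Set.Finite.card_lt_card Set.finite_univ (Set.ssubset_univ_iff.mpr hBnt.2)
      have huniq : ∀ (g g' : G) (b b' : Ω), b ∈ B → b' ∈ B → g • b = g' • b' →
          (g : G ⧸ S) = (g' : G ⧸ S) := by
        intro g g' b b' hb hb' e
        refine QuotientGroup.eq.mpr ?_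
        rw [mem_stabilizer_iff, mul_smul, inv_smul_eq_iff]
        exact (isBlock_iff_smul_eq_smul_of_nonempty.mp hB
          ⟨g • b, Set.smul_mem_smul_set hb, e ▸ Set.smul_mem_smul_set hb'⟩).symm
      have hexist : ∀ x : Ω, ∃ q : G ⧸ S, q.out⁻¹ • x ∈ B := by
        intro x
        obtain ⟨g, hg⟩ := exists_smul_eq G b₀ x
        refine ⟨(g : G ⧸ S), ?_⟩
        obtain ⟨s, hs⟩ := QuotientGroup.mk_out_eq_mul S g
        rw [hs, mul_inv_rev, mul_smul, ← hg, inv_smul_smul]
        have hsB : ((s : G)⁻¹) • B = B := mem_stabilizer_iff.mp (S.inv_mem s.2)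
        rw [← hsB]
        exact Set.smul_mem_smul_set hb₀
      choose qo hqo using hexist
      have hIlt : Nat.card (G ⧸ S) < n := by
        have hsurj : Function.Surjective qo := by
          intro q
          refine ⟨q.out • b₀, ?_⟩
          have := huniq (qo (q.out • b₀)).out q.out _ b₀ (hqo _) hb₀ (smul_inv_smul _ _)
          rwa [QuotientGroup.out_eq', QuotientGroup.out_eq'] at this
        rw [← hn]
        haveI := Fintype.ofFinite (G ⧸ S)
        haveI := Fintype.ofFinite Ω
        rw [Nat.card_eq_fintype_card, Nat.card_eq_fintype_card]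
        refine lt_of_le_of_ne (Fintype.card_le_of_surjective _ hsurj) fun e => ?_
        obtain ⟨b₁, hb₁, hne⟩ := hBnt.1.exists_ne b₀
        refine hne (((Fintype.bijective_iff_surjective_and_card qo).mpr ⟨hsurj, e.symm⟩).1 ?_)
        have e1 := huniq (qo b₁).out (1 : G) _ b₁ (hqo b₁) hb₁ (by rw [smul_inv_smul, one_smul])
        have e2 := huniq (qo b₀).out (1 : G) _ b₀ (hqo b₀) hb₀ (by rw [smul_inv_smul, one_smul])
        rw [QuotientGroup.out_eq'] at e1 e2
        rw [e1, e2]
      letI : MulAction S B :=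
        { smul := fun s b => ⟨(s : G) • (b : Ω), by
            have hs : (s : G) • B = B := mem_stabilizer_iff.mp s.2
            have h := (Set.smul_mem_smul_set b.2 : (s : G) • (b : Ω) ∈ (s : G) • B)
            rwa [hs] at h⟩
          one_smul := fun b => Subtype.ext (one_smul G b.1)
          mul_smul := fun s t b => Subtype.ext (mul_smul (s : G) t b.1) }
      obtain ⟨sB, hsB⟩ := ih (Nat.card B) hBlt S B rfl (odd_card_of_dvd hG S) inferInstance
      obtain ⟨sI, hsI⟩ := ih (Nat.card (G ⧸ S)) hIlt G (G ⧸ S) rfl hG hsol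
      let col : G ⧸ S → B → Bool := fun q b => if sI q then sB b else !sB b
      refine ⟨fun x => col (qo x) ⟨(qo x).out⁻¹ • x, hqo x⟩, fun g hg => ?_⟩
      -- `g` maps the block `q` to the block `g • q`
      have hmap : ∀ q : G ⧸ S, (g • q).out⁻¹ * g * q.out ∈ S := by
        intro q
        rw [mul_assoc, ← QuotientGroup.eq, QuotientGroup.out_eq']
        conv_lhs => rw [← QuotientGroup.out_eq' q]
        rfl
      have hqo_smul : ∀ (q : G ⧸ S) (b : B), qo (q.out • (b : Ω)) = q := by
        intro q b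
        have := huniq (qo (q.out • (b : Ω))).out q.out _ b (hqo _) b.2 (smul_inv_smul _ _)
        rwa [QuotientGroup.out_eq', QuotientGroup.out_eq'] at this
      have hval : ∀ (q : G ⧸ S) (b : B),
          col (qo (q.out • (b : Ω))) ⟨(qo (q.out • (b : Ω))).out⁻¹ • (q.out • (b : Ω)), hqo _⟩ =
            col q b := by
        intro q b
        have e := hqo_smul q b
        congr 1
        exact Subtype.ext (by simp [e])
      have hkey : ∀ (q : G ⧸ S) (b : B), col (g • q) ((⟨_, hmap q⟩ : S) • b) = col q b := by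
        intro q b
        have h := hg (q.out • (b : Ω))
        simp only at h
        rw [hval] at h
        have e : g • q.out • (b : Ω) = (g • q).out • (((⟨_, hmap q⟩ : S) • b : B) : Ω) := by
          show _ = (g • q).out • (((g • q).out⁻¹ * g * q.out) • (b : Ω))
          simp [mul_smul]
        rw [e, hval] at h
        exact h
      have hI : ∀ q, sI (g • q) = sI q := by
        intro q
        by_contra hne
        let s : S := ⟨_, hmap q⟩
        have hflip : ∀ b, sB (s • b) = !sB b := by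
          intro b
          have h := hkey q b
          simp only [col] at h
          revert h hne
          cases sI (g • q) <;> cases sI q <;> simp +contextual [s]
        have h2 : ∀ b, (s ^ 2) • b = b := hsB (s ^ 2) fun b => by
          rw [sq, mul_smul, hflip, hflip, Bool.not_not]
        have h3 : s • (⟨b₀, hb₀⟩ : B) = ⟨b₀, hb₀⟩ :=
          mem_of_sq_mem (odd_card_of_dvd hG S) (stabilizer S (⟨b₀, hb₀⟩ : B)) (h2 _)
        have := hflip ⟨b₀, hb₀⟩
        rw [h3] at this
        simp at this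
      intro x
      have hq := hsI g hI (qo x)
      let b : B := ⟨(qo x).out⁻¹ • x, hqo x⟩
      have h4 : ∀ b', sB ((⟨_, hmap (qo x)⟩ : S) • b') = sB b' := by
        intro b'
        have h := hkey (qo x) b'
        simp only [col, hI] at h
        cases hc : sI (qo x) <;> simpa [hc] using h
      have h5 := congrArg Subtype.val (hsB _ h4 b)
      change ((g • qo x).out⁻¹ * g * (qo x).out) • ((qo x).out⁻¹ • x) = (qo x).out⁻¹ • x at h5
      rw [hq, mul_smul, mul_smul, smul_inv_smul, smul_left_cancel_iff] at h5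
      exact h5
  · -- intransitive
    let Δ := orbit G ω
    have hΔ : ∀ (g : G) (x : Ω), g • x ∈ Δ ↔ x ∈ Δ := fun g x => by
      simp only [Δ, ← orbit_eq_iff, orbit_smul]
    letI : MulAction G {x : Ω // x ∈ Δ} :=
      { smul := fun g x => ⟨g • x.1, (hΔ g x.1).mpr x.2⟩
        one_smul := fun x => Subtype.ext (one_smul G x.1)
        mul_smul := fun g h x => Subtype.ext (mul_smul g h x.1) }
    letI : MulAction G {x : Ω // x ∉ Δ} :=
      { smul := fun g x => ⟨g • x.1, fun h => x.2 ((hΔ g x.1).mp h)⟩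
        one_smul := fun x => Subtype.ext (one_smul G x.1)
        mul_smul := fun g h x => Subtype.ext (mul_smul g h x.1) }
    obtain ⟨y, hy⟩ : ∃ y, y ∉ Δ := by
      by_contra hc
      push Not at hc
      exact htr ⟨fun a b => by
        obtain ⟨c, hc'⟩ := hc a
        obtain ⟨d, hd⟩ := hc b
        exact ⟨d * c⁻¹, by rw [← hc', ← hd, mul_smul, inv_smul_smul]⟩⟩
    have h1 : Nat.card {x : Ω // x ∈ Δ} < n := hn ▸ Finite.card_subtype_lt hy
    have h2' : Nat.card {x : Ω // x ∉ Δ} < n :=
      hn ▸ Finite.card_subtype_lt (x := ω) (not_not.mpr (mem_orbit_self ω))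
    obtain ⟨s₁, hs₁⟩ := ih _ h1 G {x : Ω // x ∈ Δ} rfl hG hsol
    obtain ⟨s₂, hs₂⟩ := ih _ h2' G {x : Ω // x ∉ Δ} rfl hG hsol
    refine ⟨fun x => if h : x ∈ Δ then s₁ ⟨x, h⟩ else s₂ ⟨x, h⟩, fun g hg x => ?_⟩
    by_cases hx : x ∈ Δ
    · refine congrArg Subtype.val (hs₁ g (fun z => ?_) ⟨x, hx⟩)
      have := hg z.1
      simp only [z.2, (hΔ g z.1).mpr z.2, dite_true] at this
      exact this
    · refine congrArg Subtype.val (hs₂ g (fun z => ?_) ⟨x, hx⟩)
      have := hg z.1
      have hz : g • z.1 ∉ Δ := fun h => z.2 ((hΔ g z.1).mp h)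
      simp only [z.2, hz, dite_false] at this
      exact this

/-- Gluck: an odd order group has a set meeting every stabilizer trivially. -/
theorem gluck {G : Type u} [Group G] [Finite G] {Ω : Type u} [MulAction G Ω] [Finite Ω]
    (hG : Odd (Nat.card G)) (hsol : Group.IsSolvable G) :
    ∃ s : Ω → Bool, ∀ g : G, (∀ x, s (g • x) = s x) → ∀ x : Ω, g • x = x :=
  gluck_aux (Nat.card Ω) G Ω rfl hG hsol

end CfsgLib.OddBase
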